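import Mathlib
import Cfsg.Prelude.Def_Characters
import Cfsg.Agent.Chars.Galois

/-!
# Elements close to scalars in a finite linear group

Elements of a finite linear group whose distance to a fixed scalar is less than one half commute
pairwise (Frobenius).
-/

set_option autoImplicit false

namespace Cfsg.Lib.Jordan

open scoped ComplexConjugate

universe u

variable {G : Type u} [Group G] [Fintype G] {n : ℕ} (ρ : Representation ℂ G (Fin n → ℂ))

/-- The invariant norm is the norm of the orbit map. -/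
noncomputable def orb : (Fin n → ℂ) →ₗ[ℂ] EuclideanSpace ℂ (G × Fin n) where
  toFun v := (WithLp.equiv 2 (G × Fin n → ℂ)).symm fun q => ρ q.1 v q.2
  map_add' v w := by ext q; simp
  map_smul' a v := by ext q; simp

theorem orb_apply (v : Fin n → ℂ) (q : G × Fin n) : orb ρ v q = ρ q.1 v q.2 := rfl

theorem orb_eq_zero {v : Fin n → ℂ} (h : orb ρ v = 0) : v = 0 := by
  funext i
  have h1 : orb ρ v (1, i) = 0 := by rw [h]; rfl
  rw [orb_apply, map_one] at h1
  exact h1

theorem inner_orb_rep (g : G) (v w : Fin n → ℂ) :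
    (inner ℂ (orb ρ (ρ g v)) (orb ρ (ρ g w)) : ℂ) = inner ℂ (orb ρ v) (orb ρ w) := by
  rw [PiLp.inner_apply, PiLp.inner_apply]
  refine Fintype.sum_equiv ((Equiv.mulRight g).prodCongr (Equiv.refl _)) _ _ fun q => ?_
  obtain ⟨h, i⟩ := q
  simp only [orb_apply, Equiv.prodCongr_apply, Prod.map_apply, Equiv.coe_mulRight, Equiv.refl_apply,
    map_mul, Module.End.mul_apply]

theorem norm_orb_rep (g : G) (v : Fin n → ℂ) : ‖orb ρ (ρ g v)‖ = ‖orb ρ v‖ := by
  rw [norm_eq_sqrt_re_inner (𝕜 := ℂ), norm_eq_sqrt_re_inner (𝕜 := ℂ), inner_orb_rep]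

theorem eq_one_of_orb (hinj : Function.Injective ρ) {g : G}
    (h : ∀ v, orb ρ (ρ g v - v) = 0) : g = 1 := by
  apply hinj
  rw [map_one]
  exact LinearMap.ext fun v => sub_eq_zero.1 (orb_eq_zero ρ (h v))

/-- `g` moves every vector less than a fixed multiple of it away from `c`. -/
def Bound (g : G) (c : ℂ) (r : ℝ) : Prop :=
  ∀ v, ‖orb ρ (ρ g v - c • v)‖ ≤ r * ‖orb ρ v‖

theorem bound_conj {g : G} {c : ℂ} {r : ℝ} (h : Bound ρ g c r) (a : G) :
    Bound ρ (a * g * a⁻¹) c r := by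
  intro v
  have h1 : ρ (a * g * a⁻¹) v - c • v = ρ a (ρ g (ρ a⁻¹ v) - c • ρ a⁻¹ v) := by
    rw [map_sub, map_smul, ← Module.End.mul_apply, ← map_mul, ← Module.End.mul_apply, ← map_mul,
      ← Module.End.mul_apply, ← map_mul, mul_inv_cancel, map_one, Module.End.one_apply, mul_assoc]
  rw [h1, norm_orb_rep, ← norm_orb_rep ρ a⁻¹ v]
  exact h _

theorem bound_commutator {a b : G} {ca cb : ℂ} {ra rb : ℝ} (hra : 0 ≤ ra) (hrb : 0 ≤ rb)
    (ha : Bound ρ a ca ra) (hb : Bound ρ b cb rb) :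
    Bound ρ (a * b * a⁻¹ * b⁻¹) 1 (2 * ra * rb) := by
  intro v
  set w := ρ (a⁻¹ * b⁻¹) v with hw
  have hv : v = ρ (b * a) w := by
    rw [hw, ← Module.End.mul_apply, ← map_mul, show b * a * (a⁻¹ * b⁻¹) = 1 by group, map_one,
      Module.End.one_apply]
  have hnw : ‖orb ρ v‖ = ‖orb ρ w‖ := by rw [hv, norm_orb_rep]
  have h1 : ρ (a * b * a⁻¹ * b⁻¹) v = ρ a (ρ b w) := by
    rw [hw, ← Module.End.mul_apply, ← Module.End.mul_apply, ← map_mul, ← map_mul, ← mul_assoc]
  have key : ρ (a * b * a⁻¹ * b⁻¹) v - (1 : ℂ) • v =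
      (ρ a (ρ b w - cb • w) - ca • (ρ b w - cb • w)) -
        (ρ b (ρ a w - ca • w) - cb • (ρ a w - ca • w)) := by
    rw [one_smul, h1]
    nth_rewrite 1 [hv]
    rw [map_mul, Module.End.mul_apply]
    simp only [map_sub, map_smul]
    module
  rw [key, map_sub, hnw]
  refine (norm_sub_le _ _).trans ?_
  have e1 := (ha (ρ b w - cb • w)).trans (mul_le_mul_of_nonneg_left (hb w) hra)
  have e2 := (hb (ρ a w - ca • w)).trans (mul_le_mul_of_nonneg_left (ha w) hrb)
  nlinarith [e1, e2]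

theorem inner_ne_zero {z : G} {c : ℂ} {r : ℝ} (hrc : r < ‖c‖) (hz : Bound ρ z c r)
    {v : Fin n → ℂ} (hv : v ≠ 0) : (inner ℂ (orb ρ v) (orb ρ (ρ z v)) : ℂ) ≠ 0 := by
  intro h
  have hpos : 0 < ‖orb ρ v‖ := norm_pos_iff.2 fun h0 => hv (orb_eq_zero ρ h0)
  have h1 : (inner ℂ (orb ρ v) (orb ρ (ρ z v - c • v)) : ℂ) = -(c * ((‖orb ρ v‖ : ℂ)) ^ 2) := by
    rw [map_sub, map_smul, inner_sub_right, inner_smul_right, h, inner_self_eq_norm_sq_to_K, zero_sub]
    rfl
  have h2 := norm_inner_le_norm (𝕜 := ℂ) (orb ρ v) (orb ρ (ρ z v - c • v))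
  rw [h1, norm_neg, norm_mul, norm_pow, Complex.norm_real, norm_norm] at h2
  have h3 := mul_le_mul_of_nonneg_left (hz v) hpos.le
  nlinarith [mul_pos hpos hpos]

theorem inner_eigen_eq_zero (g : G) {m : ℕ} (hm : m ≠ 0) {a b : ℂ}
    (hb : b ^ m = 1) (hab : a ≠ b) {v w : Fin n → ℂ} (hv : ρ g v = a • v) (hw : ρ g w = b • w) :
    (inner ℂ (orb ρ v) (orb ρ w) : ℂ) = 0 := by
  by_cases hv0 : v = 0
  · rw [hv0, map_zero, inner_zero_left]
  have hself : ∀ t : ℂ, ∀ u, ρ g u = t • u → u ≠ 0 → conj t * t = 1 := by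
    intro t u hu hu0
    have h := inner_orb_rep ρ g u u
    rw [hu, map_smul, inner_smul_left, inner_smul_right, ← mul_assoc] at h
    have hne : (inner ℂ (orb ρ u) (orb ρ u) : ℂ) ≠ 0 := fun h0 =>
      hu0 (orb_eq_zero ρ (inner_self_eq_zero.1 h0))
    exact mul_right_cancel₀ hne (h.trans (one_mul _).symm)
  have h := inner_orb_rep ρ g v w
  rw [hv, hw, map_smul, map_smul, inner_smul_left, inner_smul_right, ← mul_assoc] at h
  by_contra hne
  have h1 : conj a * b = 1 := mul_right_cancel₀ hne (h.trans (one_mul _).symm)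
  exact hab (mul_left_cancel₀ (left_ne_zero_of_mul_eq_one h1) (by rw [hself a v hv hv0, h1]))

/-- The projection to an eigenspace of an element of finite order. -/
noncomputable def proj (g : G) (m : ℕ) (t : ℂ) : Module.End ℂ (Fin n → ℂ) :=
  (m : ℂ)⁻¹ • ∑ i ∈ Finset.range m, (t⁻¹) ^ i • ρ (g ^ i)

theorem rep_proj {g : G} {m : ℕ} (hg : g ^ m = 1) {t : ℂ} (ht : t ^ m = 1) (v : Fin n → ℂ) :
    ρ g (proj ρ g m t v) = t • proj ρ g m t v := by
  rcases Nat.eq_zero_or_pos m with hm | hm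
  · subst hm; simp [proj]
  have ht0 : t ≠ 0 := by
    intro h
    rw [h, zero_pow hm.ne'] at ht
    exact zero_ne_one ht
  set f : ℕ → Fin n → ℂ := fun i => (t⁻¹) ^ i • ρ (g ^ i) v with hf
  have hshift : ∑ i ∈ Finset.range m, f (i + 1) = ∑ i ∈ Finset.range m, f i := by
    have h1 := Finset.sum_range_succ' f m
    rw [Finset.sum_range_succ] at h1
    have h2 : f m = f 0 := by
      simp only [hf]
      rw [hg, inv_pow, ht, inv_one, pow_zero, pow_zero]
    rw [h2] at h1
    exact (add_right_cancel h1).symm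
  simp only [proj, LinearMap.smul_apply, LinearMap.sum_apply, map_smul, map_sum]
  rw [smul_comm t (m : ℂ)⁻¹]
  congr 1
  rw [show (∑ i ∈ Finset.range m, (t⁻¹) ^ i • ρ (g ^ i) v) = ∑ i ∈ Finset.range m, f i from rfl,
    ← hshift, Finset.smul_sum]
  refine Finset.sum_congr rfl fun i _ => ?_
  simp only [hf]
  rw [smul_smul, pow_succ' t⁻¹ i, ← mul_assoc, mul_inv_cancel₀ ht0, one_mul, pow_succ',
    map_mul, Module.End.mul_apply]

theorem sum_proj {g : G} {m : ℕ} (hm : m ≠ 0) {ζ : ℂ} (hζ : IsPrimitiveRoot ζ m)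
    (v : Fin n → ℂ) : ∑ j ∈ Finset.range m, proj ρ g m (ζ ^ j) v = v := by
  simp only [proj, LinearMap.smul_apply, LinearMap.sum_apply]
  rw [← Finset.smul_sum, Finset.sum_comm, Finset.sum_eq_single 0]
  · simp only [pow_zero, map_one, Module.End.one_apply, one_smul, Finset.sum_const, Finset.card_range]
    rw [← Nat.cast_smul_eq_nsmul ℂ, smul_smul, inv_mul_cancel₀ (Nat.cast_ne_zero.2 hm), one_smul]
  · intro i hi hi0
    rw [← Finset.sum_smul]
    have hi' : (ζ⁻¹) ^ i ≠ 1 := by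
      intro h
      rw [inv_pow, inv_eq_one] at h
      exact hi0 (Nat.eq_zero_of_dvd_of_lt (hζ.dvd_of_pow_eq_one i h) (Finset.mem_range.1 hi))
    have hsum : ∑ j ∈ Finset.range m, ((ζ ^ j)⁻¹) ^ i = 0 := by
      rw [Finset.sum_congr rfl (g := fun j => ((ζ⁻¹) ^ i) ^ j) (fun j _ => by
        rw [← inv_pow, ← pow_mul, ← pow_mul, mul_comm]), geom_sum_eq hi', ← pow_mul, mul_comm,
        pow_mul, inv_pow, hζ.pow_eq_one, inv_one, one_pow, sub_self, zero_div]
    rw [hsum, zero_smul]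
  · intro h
    exact absurd (Finset.mem_range.2 (Nat.pos_of_ne_zero hm)) h

/-- Distance to a scalar from the distances of the eigenvalues. -/
theorem bound_of_eigen {g : G} {m : ℕ} (hm : m ≠ 0) (hg : g ^ m = 1) {ζ : ℂ}
    (hζ : IsPrimitiveRoot ζ m) {c : ℂ} {r : ℝ} (hr : 0 ≤ r)
    (h : ∀ j, j < m → (∃ v, proj ρ g m (ζ ^ j) v ≠ 0) → ‖ζ ^ j - c‖ ≤ r) : Bound ρ g c r := by
  intro v
  set x : ℕ → EuclideanSpace ℂ (G × Fin n) := fun j => orb ρ (proj ρ g m (ζ ^ j) v) with hx
  have hpow : ∀ j, (ζ ^ j) ^ m = 1 := fun j => by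
    rw [← pow_mul, mul_comm, pow_mul, hζ.pow_eq_one, one_pow]
  have horth : ∀ i ∈ Finset.range m, ∀ j ∈ Finset.range m, i ≠ j → (inner ℂ (x i) (x j) : ℂ) = 0 := by
    intro i hi j hj hij
    exact inner_eigen_eq_zero ρ g hm (hpow j) (fun he => hij
      (hζ.pow_inj (Finset.mem_range.1 hi) (Finset.mem_range.1 hj) he))
      (rep_proj ρ hg (hpow i) v) (rep_proj ρ hg (hpow j) v)
  have hpyth : ∀ a : ℕ → ℂ, ‖∑ j ∈ Finset.range m, a j • x j‖ ^ 2 =
      ∑ j ∈ Finset.range m, ‖a j‖ ^ 2 * ‖x j‖ ^ 2 := by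
    intro a
    rw [← inner_self_eq_norm_sq (𝕜 := ℂ), sum_inner, map_sum]
    refine Finset.sum_congr rfl fun i hi => ?_
    rw [inner_sum, Finset.sum_eq_single i (fun j hj hji => by
      rw [inner_smul_left, inner_smul_right, horth i hi j hj (Ne.symm hji), mul_zero, mul_zero])
      (fun h' => absurd hi h'), inner_self_eq_norm_sq (𝕜 := ℂ), norm_smul, mul_pow]
  have hv : orb ρ v = ∑ j ∈ Finset.range m, (1 : ℂ) • x j := by
    simp only [one_smul, hx]
    rw [← map_sum, sum_proj ρ hm hζ v]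
  have hgv : orb ρ (ρ g v - c • v) = ∑ j ∈ Finset.range m, (ζ ^ j - c) • x j := by
    conv_lhs => rw [← sum_proj ρ hm hζ (g := g) v]
    rw [map_sum, Finset.smul_sum, ← Finset.sum_sub_distrib, map_sum]
    refine Finset.sum_congr rfl fun j _ => ?_
    rw [rep_proj ρ hg (hpow j) v, ← sub_smul, map_smul]
  have hle : ‖orb ρ (ρ g v - c • v)‖ ^ 2 ≤ (r * ‖orb ρ v‖) ^ 2 := by
    rw [mul_pow, hgv, hv, hpyth, hpyth, Finset.mul_sum]
    refine Finset.sum_le_sum fun j hj => ?_
    rw [norm_one, one_pow, one_mul]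
    by_cases hex : ∃ w, proj ρ g m (ζ ^ j) w ≠ 0
    · exact mul_le_mul_of_nonneg_right
        (pow_le_pow_left₀ (norm_nonneg _) (h j (Finset.mem_range.1 hj) hex) 2) (sq_nonneg _)
    · have h0 : x j = 0 := by
        simp only [hx]
        rw [not_not.1 (not_exists.1 hex v), map_zero]
      simp [h0]
  exact le_of_pow_le_pow_left₀ two_ne_zero (mul_nonneg hr (norm_nonneg _)) hle

/-- If `x` commutes with its conjugate by `z` and `z` is close to a nonzero scalar then `x`
commutes with `z`. -/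
theorem commute_of_commute_conj (hinj : Function.Injective ρ) {x z : G} {c : ℂ} {r : ℝ}
    (hrc : r < ‖c‖) (hz : Bound ρ z c r) (h : Commute x (z * x * z⁻¹)) : Commute x z := by
  set m := orderOf x with hmdef
  have hm : m ≠ 0 := (orderOf_pos x).ne'
  have hg : x ^ m = 1 := pow_orderOf_eq_one x
  obtain ⟨ζ, hζ⟩ : ∃ ζ : ℂ, IsPrimitiveRoot ζ m := ⟨_, Complex.isPrimitiveRoot_exp m hm⟩
  have hpow : ∀ j, (ζ ^ j) ^ m = 1 := fun j => by
    rw [← pow_mul, mul_comm, pow_mul, hζ.pow_eq_one, one_pow]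
  have hkey : ∀ (t : ℂ) (v : Fin n → ℂ), t ^ m = 1 → ρ x v = t • v →
      ρ x (ρ z v) = t • ρ z v := by
    intro t v ht hv
    set w := ρ z v with hw
    have hCw : ρ (z * x * z⁻¹) w = t • w := by
      rw [hw, ← Module.End.mul_apply, ← map_mul, show z * x * z⁻¹ * z = z * x by group, map_mul,
        Module.End.mul_apply, hv, map_smul]
    have hw1 : ∀ j, ρ (z * x * z⁻¹) (proj ρ x m (ζ ^ j) w) = t • proj ρ x m (ζ ^ j) w := by
      intro j
      simp only [proj, LinearMap.smul_apply, LinearMap.sum_apply, map_smul, map_sum]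
      rw [smul_comm t (m : ℂ)⁻¹]
      congr 1
      rw [Finset.smul_sum]
      refine Finset.sum_congr rfl fun i _ => ?_
      rw [← Module.End.mul_apply, ← map_mul, ← (h.pow_left i).eq, map_mul, Module.End.mul_apply,
        hCw, map_smul, smul_comm]
    have hzero : ∀ j, ζ ^ j ≠ t → proj ρ x m (ζ ^ j) w = 0 := by
      intro j hj
      by_contra hne
      set u := ρ z⁻¹ (proj ρ x m (ζ ^ j) w) with hu
      have hzu : ρ z u = proj ρ x m (ζ ^ j) w := by
        rw [hu, ← Module.End.mul_apply, ← map_mul, mul_inv_cancel, map_one, Module.End.one_apply]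
      have hu0 : u ≠ 0 := fun h0 => hne (by rw [← hzu, h0, map_zero])
      have hxu : ρ x u = t • u := by
        have h2 := congrArg (ρ z⁻¹) (hw1 j)
        rw [← Module.End.mul_apply, ← map_mul, show z⁻¹ * (z * x * z⁻¹) = x * z⁻¹ by group,
          map_mul, Module.End.mul_apply, map_smul] at h2
        exact h2
      exact inner_ne_zero ρ hrc hz hu0 (by
        rw [hzu]
        exact inner_eigen_eq_zero ρ x hm (hpow j) (Ne.symm hj) hxu (rep_proj ρ hg (hpow j) w))
    conv_lhs => rw [← sum_proj ρ hm hζ (g := x) w]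
    conv_rhs => rw [← sum_proj ρ hm hζ (g := x) w]
    rw [map_sum, Finset.smul_sum]
    refine Finset.sum_congr rfl fun j _ => ?_
    by_cases hj : ζ ^ j = t
    · rw [rep_proj ρ hg (hpow j) w, hj]
    · rw [hzero j hj, map_zero, smul_zero]
  refine hinj (LinearMap.ext fun v => ?_)
  rw [map_mul, map_mul, Module.End.mul_apply, Module.End.mul_apply,
    ← sum_proj ρ hm hζ (g := x) v]
  simp only [map_sum]
  refine Finset.sum_congr rfl fun j _ => ?_
  rw [rep_proj ρ hg (hpow j) v, map_smul, hkey _ _ (hpow j) (rep_proj ρ hg (hpow j) v)]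

/-- Two elements within distance less than `1 / 2` of the scalar `c` commute. -/
theorem commute_of_close (hinj : Function.Injective ρ) {x y : G} {c : ℂ} {rx ry : ℝ}
    (hc : (1 : ℝ) / 2 ≤ ‖c‖) (hrx : 0 ≤ rx) (hrx' : rx < 1 / 2) (hry : 0 ≤ ry) (hry' : ry < 1 / 2)
    (hx : Bound ρ x c rx) (hy : Bound ρ y c ry) : Commute x y := by
  set s : ℕ → G := fun k => (fun b => x * b * x⁻¹ * b⁻¹)^[k] y with hs
  have hsucc : ∀ k, s (k + 1) = x * s k * x⁻¹ * (s k)⁻¹ := fun k => by
    simp only [hs, Function.iterate_succ_apply']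
  have hbd : ∀ k, Bound ρ (s (k + 1)) 1 ((2 * rx) ^ k * (2 * rx * ry)) := by
    intro k
    induction k with
    | zero =>
      rw [pow_zero, one_mul, hsucc]
      exact bound_commutator ρ hrx hry hx (show Bound ρ (s 0) c ry from hy)
    | succ k ih =>
      rw [hsucc]
      have h1 := bound_commutator ρ hrx (mul_nonneg (pow_nonneg (by positivity) k) (by positivity)) hx ih
      convert h1 using 1
      ring
  have hlt : ∀ k, (2 * rx) ^ k * (2 * rx * ry) < 1 := fun k => by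
    have h1 : (2 * rx) ^ k ≤ 1 := pow_le_one₀ (by positivity) (by linarith)
    have h2 : 2 * rx * ry < 1 := by nlinarith
    have h3 : (2 * rx) ^ k * (2 * rx * ry) ≤ 2 * rx * ry := mul_le_of_le_one_left (by positivity) h1
    linarith
  obtain ⟨g, hg⟩ := Finite.exists_infinite_fiber (fun k : ℕ => s (k + 1))
  have hg1 : g = 1 := by
    refine eq_one_of_orb ρ hinj fun v => norm_le_zero_iff.1 ?_
    refine le_of_forall_pos_le_add fun ε hε => ?_
    rw [zero_add]
    have hlim : Filter.Tendsto (fun k : ℕ => (2 * rx) ^ k * (2 * rx * ry) * ‖orb ρ v‖)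
        Filter.atTop (nhds 0) := by
      have := ((tendsto_pow_atTop_nhds_zero_of_lt_one (by positivity : 0 ≤ 2 * rx)
        (by linarith)).mul_const (2 * rx * ry)).mul_const ‖orb ρ v‖
      simpa using this
    obtain ⟨N, hN⟩ := Filter.eventually_atTop.1 (hlim.eventually_lt_const hε)
    obtain ⟨k, hk, hkN⟩ := (Set.infinite_coe_iff.1 hg).exists_gt N
    have hks : s (k + 1) = g := hk
    have := hbd k v
    rw [hks, one_smul] at this
    exact this.trans (hN k hkN.le).le
  obtain ⟨k, hk⟩ : ∃ k, s (k + 1) = 1 := by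
    obtain ⟨⟨k, hk⟩⟩ := (inferInstance : Nonempty ((fun k : ℕ => s (k + 1)) ⁻¹' {g}))
    exact ⟨k, hk.trans hg1⟩
  have hdown : ∀ k, s (k + 1) = 1 → s 1 = 1 := by
    intro k
    induction k with
    | zero => exact id
    | succ k ih =>
      intro h
      apply ih
      rw [hsucc, mul_inv_eq_one, mul_inv_eq_iff_eq_mul] at h
      have hcom : Commute x (s (k + 1)) := h
      rw [hsucc] at hcom
      have hcom' : Commute x (s k * x * (s k)⁻¹) := by
        have h1 : Commute x (s k * x⁻¹ * (s k)⁻¹) := by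
          have := (Commute.refl x).inv_right.mul_right hcom
          rwa [show x⁻¹ * (x * s k * x⁻¹ * (s k)⁻¹) = s k * x⁻¹ * (s k)⁻¹ by group] at this
        have := h1.inv_right
        rwa [show (s k * x⁻¹ * (s k)⁻¹)⁻¹ = s k * x * (s k)⁻¹ by group] at this
      have hc2 : Commute x (s k) := by
        cases k with
        | zero => exact commute_of_commute_conj ρ hinj (lt_of_lt_of_le hry' hc) hy hcom'
        | succ j => exact commute_of_commute_conj ρ hinj (by rw [norm_one]; exact hlt j) (hbd j) hcom'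
      rw [hsucc, hc2.eq]
      group
  have h1 := hdown k hk
  rw [hsucc, mul_inv_eq_one, mul_inv_eq_iff_eq_mul] at h1
  exact h1

end Cfsg.Lib.Jordan
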