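import Mathlib
import Cfsg.Prelude.Def_Characters
import Cfsg.Agent.Blocks.Monomial
import Cfsg.Agent.Chars.Galois
import Cfsg.Agent.S0169

/-!
# Blichfeldt: abelian Hall subgroups for the primes above the degree plus one
-/

set_option autoImplicit false
set_option linter.unusedSectionVars false

namespace Cfsg.Lib.Jordan

open scoped ComplexConjugate
open Cfsg.Lib.Chars

universe u

variable {G : Type u} [Group G] [Finite G]

/-- The irreducible constituents of a faithful character separate the elements. -/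
theorem exists_constituents {χ : G → ℂ} (hχ : Cfsg.IsCharacter G χ)
    (hfaith : ∀ g : G, χ g = χ 1 → g = 1) :
    ∃ a : Cfsg.IrrCharacter G → ℕ, ∑ ψ, a ψ * deg (ψ : G → ℂ) = deg χ ∧
      ∀ g : G, (∀ ψ, a ψ ≠ 0 → (ψ : G → ℂ) g = (ψ : G → ℂ) 1) → g = 1 := by
  obtain ⟨a, ha⟩ := IsCharacter.exists_decomp hχ
  have hv : ∀ g, χ g = ∑ ψ, (a ψ : ℂ) * (ψ : G → ℂ) g := fun g => by
    rw [ha, Finset.sum_apply]
    exact Finset.sum_congr rfl fun ψ _ => by simp [nsmul_eq_mul]
  refine ⟨a, ?_, fun g hg => hfaith g ?_⟩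
  · have h1 := hv 1
    rw [IsCharacter.apply_one_eq_deg hχ] at h1
    have h2 : (deg χ : ℂ) = ((∑ ψ, a ψ * deg (ψ : G → ℂ) : ℕ) : ℂ) := by
      rw [h1]; push_cast
      exact Finset.sum_congr rfl fun ψ _ => by rw [irr_apply_one_eq_deg]
    exact_mod_cast h2.symm
  · rw [hv, hv]
    refine Finset.sum_congr rfl fun ψ _ => ?_
    by_cases h : a ψ = 0
    · simp [h]
    · rw [hg ψ h]

theorem deg_le_of_ne_zero {a : Cfsg.IrrCharacter G → ℕ} {n : ℕ}
    (hn : ∑ ψ, a ψ * deg (ψ : G → ℂ) = n) {ψ : Cfsg.IrrCharacter G} (h : a ψ ≠ 0) :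
    deg (ψ : G → ℂ) ≤ n := by
  rw [← hn]
  exact (Nat.le_mul_of_pos_left _ (Nat.pos_of_ne_zero h)).trans
    (Finset.single_le_sum (f := fun φ => a φ * deg (φ : G → ℂ)) (fun _ _ => Nat.zero_le _)
      (Finset.mem_univ ψ))

/-- A `p`-subgroup of a linear group of degree `n` has an abelian subgroup of index dividing `n!`. -/
theorem exists_abelian_index_dvd_factorial {P : Type u} [Group P] [Finite P] {p : ℕ} [Fact p.Prime]
    (hP : IsPGroup p P) {χ : P → ℂ} (hχ : Cfsg.IsCharacter P χ)
    (hfaith : ∀ g : P, χ g = χ 1 → g = 1) :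
    ∃ H : Subgroup P, (∀ x ∈ H, ∀ y ∈ H, x * y = y * x) ∧ H.index ∣ Nat.factorial (deg χ) := by
  classical
  letI := Fintype.ofFinite P
  haveI := hP.isNilpotent
  obtain ⟨a, hdeg, hsep⟩ := exists_constituents hχ hfaith
  have hmon : ∀ ψ : Cfsg.IrrCharacter P, ∃ (K : Subgroup P) (lam : K →* ℂˣ),
      (ψ : P → ℂ) = Cfsg.indFun K (fun k => (lam k : ℂ)) := fun ψ =>
    Cfsg.Lib.Blocks.isMonomial_of_isNilpotent _ P rfl _ ψ.2
  choose K lam hK using hmon
  let ι := {ψ : Cfsg.IrrCharacter P // a ψ ≠ 0}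
  let Φ : P →* ∀ i : ι, Equiv.Perm (P ⧸ K i.1) :=
    Pi.monoidHom fun i => MulAction.toPermHom P (P ⧸ K i.1)
  refine ⟨Φ.ker, fun x hx y hy => ?_, ?_⟩
  · have hmem : ∀ z ∈ Φ.ker, ∀ (i : ι) (g : P), g⁻¹ * z * g ∈ K i.1 := by
      intro z hz i g
      have h1 : Φ z i = 1 := by rw [MonoidHom.mem_ker.1 hz]; rfl
      have h2 := congrArg (fun e : Equiv.Perm (P ⧸ K i.1) => e (g : P ⧸ K i.1)) h1
      simp only [Φ, Pi.monoidHom_apply, MulAction.toPermHom_apply, MulAction.toPerm_apply,
        Equiv.Perm.coe_one, id_eq, MulAction.Quotient.smul_mk, smul_eq_mul] at h2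
      have h3 := QuotientGroup.eq.1 h2.symm
      have h4 : g⁻¹ * (z * g) ∈ K i.1 := h3
      rwa [← mul_assoc] at h4
    rw [← mul_inv_eq_one]
    have hc : (x * y) * (y * x)⁻¹ = 1 := by
      refine hsep _ fun ψ hψ => ?_
      rw [hK ψ, indFun_one, indFun_apply, map_one, Units.val_one, mul_one]
      have hval : ∀ g : P, Cfsg.extendByZero (K ψ) (fun k => (lam ψ k : ℂ))
          (g⁻¹ * ((x * y) * (y * x)⁻¹) * g) = 1 := by
        intro g
        set X : K ψ := ⟨_, hmem x hx ⟨ψ, hψ⟩ g⟩ with hX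
        set Y : K ψ := ⟨_, hmem y hy ⟨ψ, hψ⟩ g⟩ with hY
        have he : g⁻¹ * ((x * y) * (y * x)⁻¹) * g = ((X * Y * (Y * X)⁻¹ : K ψ) : P) := by
          simp only [hX, hY, Subgroup.coe_mul, Subgroup.coe_inv]
          group
        rw [he, extendByZero_mem _ (X * Y * (Y * X)⁻¹).2]
        show ((lam ψ (X * Y * (Y * X)⁻¹) : ℂˣ) : ℂ) = 1
        rw [map_mul, map_mul, map_inv, map_mul, mul_comm (lam ψ Y), mul_inv_cancel, Units.val_one]
      rw [Finset.sum_congr rfl (fun g _ => hval g), Finset.sum_const, Finset.card_univ, nsmul_eq_mul,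
        mul_one, ← Nat.card_eq_fintype_card, ← (K ψ).card_mul_index, Nat.cast_mul,
        inv_mul_cancel_left₀ (Nat.cast_ne_zero.2 Nat.card_pos.ne')]
    exact hc
  · have hidx : ∀ ψ : Cfsg.IrrCharacter P, (K ψ).index = deg (ψ : P → ℂ) := fun ψ => by
      have h1 : (ψ : P → ℂ) 1 = ((K ψ).index : ℂ) := by
        rw [hK ψ, indFun_one, map_one, Units.val_one, mul_one]
      rw [irr_apply_one_eq_deg] at h1
      exact_mod_cast h1.symm
    rw [Subgroup.index_ker]
    refine (Subgroup.card_subgroup_dvd_card Φ.range).trans ?_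
    rw [Nat.card_pi]
    have hp : ∀ i : ι, Nat.card (Equiv.Perm (P ⧸ K i.1)) = Nat.factorial (deg ((i.1 : _) : P → ℂ)) :=
      fun i => by
        rw [Nat.card_eq_fintype_card, Fintype.card_perm, ← Nat.card_eq_fintype_card, ← hidx]
        rfl
    rw [Finset.prod_congr rfl fun i _ => hp i]
    refine (Nat.prod_factorial_dvd_factorial_sum _ _).trans (Nat.factorial_dvd_factorial ?_)
    rw [← hdeg]
    calc ∑ i : ι, deg ((i.1 : _) : P → ℂ) ≤ ∑ i : ι, a i.1 * deg ((i.1 : _) : P → ℂ) :=
          Finset.sum_le_sum fun i _ => Nat.le_mul_of_pos_left _ (Nat.pos_of_ne_zero i.2)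
      _ ≤ ∑ ψ, a ψ * deg (ψ : P → ℂ) := by
          rw [← Finset.sum_subtype (Finset.univ.filter fun ψ => a ψ ≠ 0) (fun ψ => by simp)
            (fun ψ => a ψ * deg (ψ : P → ℂ))]
          exact Finset.sum_le_sum_of_subset (Finset.filter_subset _ _)

/-- Sylow subgroups for primes above the degree are abelian. -/
theorem sylow_comm {χ : G → ℂ} (hχ : Cfsg.IsCharacter G χ)
    (hfaith : ∀ g : G, χ g = χ 1 → g = 1) {p : ℕ} [Fact p.Prime] (hp : deg χ < p) (P : Sylow p G) :
    ∀ x ∈ (P : Subgroup G), ∀ y ∈ (P : Subgroup G), x * y = y * x := by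
  obtain ⟨H, hab, hdvd⟩ := exists_abelian_index_dvd_factorial P.2
    (IsCharacter.restrict hχ (P : Subgroup G))
    (fun g hg => Subtype.ext (hfaith g (by simpa using hg)))
  have hdeg : deg (fun x : (P : Subgroup G) => χ x) = deg χ := by simp [deg]
  rw [hdeg] at hdvd
  obtain ⟨k, hk⟩ := IsPGroup.iff_card.1 P.2
  have hi : H.index ∣ p ^ k := hk ▸ H.index_dvd_card
  have hcop : Nat.Coprime (p ^ k) (Nat.factorial (deg χ)) := Nat.Coprime.pow_left _
    (((Fact.out : p.Prime).coprime_iff_not_dvd).2 fun h => by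
      have := ((Fact.out : p.Prime).dvd_factorial).1 h; omega)
  have htop : H = ⊤ := Subgroup.index_eq_one.1 (Nat.eq_one_of_dvd_coprimes hcop hi hdvd)
  intro x hx y hy
  exact congrArg Subtype.val (hab ⟨x, hx⟩ (htop ▸ Subgroup.mem_top _) ⟨y, hy⟩ (htop ▸ Subgroup.mem_top _))

/-- An irreducible character of degree less than `p - 1` that is not trivial on the `p`-elements is
moved by some `k ≡ 1` modulo the `p'`-part of the group order. -/
theorem exists_moved (ψ : Cfsg.IrrCharacter G) {p : ℕ} (hp : p.Prime)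
    (hdeg : deg (ψ : G → ℂ) + 1 < p) {x : G} (hx : ∃ e, x ^ p ^ e = 1)
    (hne : (ψ : G → ℂ) x ≠ (ψ : G → ℂ) 1) :
    ∃ φ : Cfsg.IrrCharacter G, φ ≠ ψ ∧
      ∀ h : G, ¬ p ∣ orderOf h → (φ : G → ℂ) h = (ψ : G → ℂ) h := by
  classical
  letI := Fintype.ofFinite G
  have hc := isCharacter_of_irr ψ.2
  set K := kerSubgroup (ψ : G → ℂ) hc with hK
  haveI : K.Normal := kerSubgroup_normal hc
  obtain ⟨e, he⟩ := hx
  have hex : ∃ i, x ^ p ^ i ∈ K := ⟨e, he ▸ K.one_mem⟩
  obtain ⟨i, hi⟩ : ∃ i, Nat.find hex = i + 1 := Nat.exists_eq_succ_of_ne_zero fun h0 => by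
    have h1 := Nat.find_spec hex
    rw [h0, pow_zero, pow_one] at h1
    exact hne ((mem_kerSubgroup hc x).1 h1)
  set y := x ^ p ^ i with hy
  have hyK : y ∉ K := Nat.find_min hex (by omega)
  have hypK : y ^ p ∈ K := by
    rw [hy, ← pow_mul, ← pow_succ, ← hi]
    exact Nat.find_spec hex
  obtain ⟨d, ρ, hρ, hρc⟩ := ψ.2
  have hker : ∀ z ∈ K, ∀ g : G, (ψ : G → ℂ) (g * z) = (ψ : G → ℂ) g := by
    intro z hz g
    have h1 : ρ z = LinearMap.id := (eq_id_of_character_eq_finrank ρ z).1 (by
      rw [← ρ.char_one, hρc]; exact (mem_kerSubgroup hc z).1 hz)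
    rw [← hρc]
    show LinearMap.trace ℂ _ (ρ (g * z)) = LinearMap.trace ℂ _ (ρ g)
    rw [map_mul, h1]
    rfl
  have hper : ∀ j : ℕ, (ψ : G → ℂ) (y ^ j) = (ψ : G → ℂ) (y ^ (j % p)) := fun j => by
    conv_lhs => rw [← Nat.mod_add_div j p, pow_add, pow_mul]
    exact hker _ (K.pow_mem hypK _) _
  -- the values at the powers of `y` are not all equal
  obtain ⟨j, hj0, hjp, hjne⟩ : ∃ j, 0 < j ∧ j < p ∧ (ψ : G → ℂ) (y ^ j) ≠ (ψ : G → ℂ) y := by
    by_contra hall
    push Not at hall
    set D := deg (ψ : G → ℂ) with hD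
    set c := (ψ : G → ℂ) y with hcdef
    set o := orderOf y with ho
    have hpo : p ∣ o := by
      obtain ⟨b, hb⟩ : ∃ b, o = p ^ b := by
        have h1 : o ∣ p ^ e := orderOf_dvd_of_pow_eq_one (by
          rw [hy, ← pow_mul, mul_comm, pow_mul, he, one_pow])
        obtain ⟨b, -, hb⟩ := (Nat.dvd_prime_pow hp).1 h1
        exact ⟨b, hb⟩
      rcases Nat.eq_zero_or_pos b with rfl | hb0
      · exfalso
        rw [pow_zero] at hb
        exact hyK (orderOf_eq_one_iff.1 hb ▸ K.one_mem)
      · exact hb ▸ dvd_pow_self p hb0.ne'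
    obtain ⟨t, ht⟩ := hpo
    obtain ⟨ι, _, cf, z, hz, hv⟩ := IsCharacter.exists_cyclic_decomp hc y
    -- multiplicity of the trivial eigenvalue
    set m0 : ℕ := ∑ k ∈ Finset.univ.filter (fun k => z k = 1), cf k with hm0
    have hsum : ∑ l ∈ Finset.range o, (ψ : G → ℂ) (y ^ l) = (o : ℂ) * m0 := by
      simp only [hv]
      rw [Finset.sum_comm, hm0, Nat.cast_sum, Finset.mul_sum, Finset.sum_filter]
      refine Finset.sum_congr rfl fun k _ => ?_
      rw [← Finset.mul_sum]
      split_ifs with h1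
      · simp [h1, mul_comm]
      · rw [geom_sum_eq h1, hz, sub_self, zero_div, mul_zero]
    have hblock : ∀ s : ℕ, ∑ l ∈ Finset.range (p * s), (ψ : G → ℂ) (y ^ l) =
        (s : ℂ) * ∑ l ∈ Finset.range p, (ψ : G → ℂ) (y ^ l) := by
      intro s
      induction s with
      | zero => simp
      | succ s ih =>
        have hstep : ∑ l ∈ Finset.range p, (ψ : G → ℂ) (y ^ (p * s + l)) =
            ∑ l ∈ Finset.range p, (ψ : G → ℂ) (y ^ l) :=
          Finset.sum_congr rfl fun l hl => by
            rw [hper (p * s + l), Nat.mul_add_mod, Nat.mod_eq_of_lt (Finset.mem_range.1 hl)]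
        rw [Nat.mul_succ, Finset.sum_range_add, ih, hstep]
        push_cast; ring
    have hp0 : ∑ l ∈ Finset.range p, (ψ : G → ℂ) (y ^ l) = (D : ℂ) + ((p : ℂ) - 1) * c := by
      obtain ⟨p', rfl⟩ := Nat.exists_eq_succ_of_ne_zero hp.ne_zero
      rw [Finset.sum_range_succ', pow_zero, irr_apply_one_eq_deg,
        Finset.sum_congr rfl (g := fun _ => c) (fun l hl =>
          hall (l + 1) (Nat.succ_pos l) (Nat.succ_lt_succ (Finset.mem_range.1 hl))),
        Finset.sum_const, Finset.card_range, nsmul_eq_mul]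
      push_cast; ring
    have ht0 : (t : ℂ) ≠ 0 := Nat.cast_ne_zero.2 fun h => by
      rw [h, mul_zero] at ht; exact (orderOf_pos y).ne' (ho ▸ ht)
    have heq : (D : ℂ) + ((p : ℂ) - 1) * c = (p : ℂ) * m0 := by
      apply mul_left_cancel₀ ht0
      rw [← hp0, ← hblock t, ← ht, hsum, ht]
      push_cast; ring
    have hD1 : (ψ : G → ℂ) 1 = (D : ℂ) := irr_apply_one_eq_deg ψ
    have hcD : c ≠ (D : ℂ) := fun h => hyK ((mem_kerSubgroup hc y).2 (h.trans hD1.symm))
    have hp1 : ((p - 1 : ℕ) : ℂ) = (p : ℂ) - 1 := by rw [Nat.cast_sub hp.pos, Nat.cast_one]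
    -- `m0` is the trivial multiplicity
    have hDsum : D = ∑ k, cf k := by
      have h1 := hv 0
      rw [pow_zero, hD1] at h1
      simp only [pow_zero, mul_one] at h1
      exact_mod_cast h1
    have hm0le : m0 ≤ D := by
      rw [hm0, hDsum]
      exact Finset.sum_le_sum_of_subset (Finset.filter_subset _ _)
    have hm0ne : m0 ≠ D := by
      intro h
      rw [h] at heq
      have hpne : (p : ℂ) - 1 ≠ 0 := by
        rw [← hp1]; exact Nat.cast_ne_zero.2 (by have := hp.two_le; omega)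
      exact hcD (mul_left_cancel₀ hpne (by linear_combination heq))
    have hint : IsIntegral ℤ
        ((((((p * m0 : ℕ) : ℚ) - D) / ((p - 1 : ℕ) : ℚ)) : ℚ) : ℂ) := by
      rw [show ((((((p * m0 : ℕ) : ℚ) - D) / ((p - 1 : ℕ) : ℚ)) : ℚ) : ℂ) = c by
        push_cast [Nat.cast_sub hp.pos]
        rw [div_eq_iff (by rw [← hp1]; exact Nat.cast_ne_zero.2 (by have := hp.two_le; omega))]
        linear_combination -heq]
      exact IsCharacter.isIntegral hc y
    obtain ⟨w, hw⟩ := int_of_isIntegral_rat hint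
    rw [div_eq_iff (Nat.cast_ne_zero.2 (by have := hp.two_le; omega))] at hw
    have hw' : ((p * m0 : ℕ) : ℤ) - (D : ℤ) = w * ((p - 1 : ℕ) : ℤ) := by exact_mod_cast hw
    have hdvd : ((p - 1 : ℕ) : ℤ) ∣ ((D - m0 : ℕ) : ℤ) := by
      refine ⟨(m0 : ℤ) - w, ?_⟩
      push_cast [Nat.cast_sub hm0le, Nat.cast_sub hp.pos] at hw' ⊢
      linear_combination -hw'
    have h9 := Nat.le_of_dvd (by omega) (Int.natCast_dvd_natCast.1 hdvd)
    omega
  set n := Nat.card G with hn
  have hn0 : n ≠ 0 := Nat.card_pos.ne'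
  haveI : NeZero n := ⟨hn0⟩
  set a := n.factorization p with ha
  set m := n / p ^ a with hm
  have hqm : p ^ a * m = n := Nat.ordProj_mul_ordCompl_eq_self n p
  have hcop : Nat.Coprime (p ^ a) m := Nat.Coprime.pow_left _ (Nat.coprime_ordCompl hp hn0)
  obtain ⟨k, hkq, hkm⟩ := Nat.chineseRemainder hcop j 1
  have ha0 : a ≠ 0 := fun h => by
    have h1 : p ∣ n := by
      obtain ⟨b, -, hb⟩ := (Nat.dvd_prime_pow hp).1
        (orderOf_dvd_of_pow_eq_one (show x ^ p ^ e = 1 from he))
      have : b ≠ 0 := fun hb0 => hne (by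
        rw [hb0, pow_zero] at hb
        rw [orderOf_eq_one_iff.1 hb])
      exact (dvd_pow_self p this).trans (hb ▸ orderOf_dvd_natCard x)
    exact (Nat.Prime.factorization_pos_of_dvd hp hn0 h1).ne' h
  have hkp : k ≡ j [MOD p] := hkq.of_dvd (dvd_pow_self p ha0)
  have hkcop : Nat.Coprime k n := by
    rw [← hqm]
    refine Nat.Coprime.mul_right (Nat.Coprime.pow_right a ?_) ?_
    · rw [Nat.Coprime, hkp.gcd_eq]
      exact (hp.coprime_iff_not_dvd.2 fun h => by have := Nat.le_of_dvd hj0 h; omega).symm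
    · rw [Nat.Coprime, hkm.gcd_eq]; exact Nat.gcd_one_left m
  obtain ⟨σ, hσ⟩ := exists_galConj_auto (m := n) hkcop
  have hval : ∀ g, σ ((ψ : G → ℂ) g) = (ψ : G → ℂ) (g ^ k) := fun g =>
    hσ.apply_character hc (orderOf_dvd_natCard g)
  refine ⟨⟨fun g => σ ((ψ : G → ℂ) g), IsIrrCharacter.map_auto ψ.2 σ⟩, fun h => ?_, fun h hh => ?_⟩
  · have h1 := congrFun (congrArg Subtype.val h) y
    simp only at h1
    rw [hval, hper, show k % p = j % p from hkp, Nat.mod_eq_of_lt hjp] at h1
    exact hjne h1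
  · show σ ((ψ : G → ℂ) h) = _
    have hhm : orderOf h ∣ m := by
      refine Nat.Coprime.dvd_of_dvd_mul_left (k := orderOf h) (m := p ^ a) (n := m)
        (Nat.Coprime.pow_right a (hp.coprime_iff_not_dvd.2 hh).symm) ?_
      rw [hqm]
      exact orderOf_dvd_natCard h
    rw [hval, show h ^ k = h ^ 1 from pow_eq_pow_iff_modEq.2 (hkm.of_dvd hhm), pow_one]

/-- Some element has order divisible by both primes. -/
theorem exists_commuting {χ : G → ℂ} (hχ : Cfsg.IsCharacter G χ)
    (hfaith : ∀ g : G, χ g = χ 1 → g = 1) {p q : ℕ} (hp : p.Prime) (hq : q.Prime) (hpq : p ≠ q)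
    (hdp : deg χ + 1 < p) (hdq : deg χ + 1 < q) (hpG : p ∣ Nat.card G) (hqG : q ∣ Nat.card G) :
    ∃ x y : G, orderOf x = p ∧ orderOf y = q ∧ Commute x y := by
  classical
  letI := Fintype.ofFinite G
  haveI := Fact.mk hp
  haveI := Fact.mk hq
  by_cases hex : ∃ h : G, p ∣ orderOf h ∧ q ∣ orderOf h
  · obtain ⟨h, h1, h2⟩ := hex
    refine ⟨h ^ (orderOf h / p), h ^ (orderOf h / q), ?_, ?_, Commute.pow_pow_self h _ _⟩
    · exact orderOf_pow_orderOf_div (orderOf_pos h).ne' h1
    · exact orderOf_pow_orderOf_div (orderOf_pos h).ne' h2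
  exfalso
  obtain ⟨a, hdeg, hsep⟩ := exists_constituents hχ hfaith
  obtain ⟨x, hx⟩ := exists_prime_orderOf_dvd_card' p hpG
  obtain ⟨y, hy⟩ := exists_prime_orderOf_dvd_card' q hqG
  have hcases : ∀ ψ, a ψ ≠ 0 →
      (ψ : G → ℂ) x = (ψ : G → ℂ) 1 ∨ (ψ : G → ℂ) y = (ψ : G → ℂ) 1 := by
    intro ψ hψ
    by_contra hne
    rw [not_or] at hne
    have hd := deg_le_of_ne_zero hdeg hψ
    obtain ⟨φ, hφ, hφr⟩ := exists_moved ψ hp (by omega) (x := x)
      ⟨1, by rw [pow_one, ← hx, pow_orderOf_eq_one]⟩ hne.1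
    obtain ⟨η, hη, hηr⟩ := exists_moved ψ hq (by omega) (x := y)
      ⟨1, by rw [pow_one, ← hy, pow_orderOf_eq_one]⟩ hne.2
    have hzero : Cfsg.classInner ((ψ : G → ℂ) - (φ : G → ℂ)) ((ψ : G → ℂ) - (η : G → ℂ)) = 0 := by
      rw [classInner_def, Finset.sum_eq_zero, mul_zero]
      intro g _
      by_cases hg : p ∣ orderOf g
      · have hgq : ¬ q ∣ orderOf g := fun h => hex ⟨g, hg, h⟩
        simp [hηr g hgq]
      · simp [hφr g hg]
    rw [classInner_sub_left, classInner_sub_right, classInner_sub_right, classInner_irrCharacter,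
      classInner_irrCharacter, classInner_irrCharacter, classInner_irrCharacter, if_pos rfl,
      if_neg (Ne.symm hη), if_neg hφ] at hzero
    split_ifs at hzero <;> norm_num at hzero
  have hcomm : Commute x y := by
    refine mul_inv_eq_one.1 (hsep _ fun ψ hψ => ?_)
    obtain ⟨d, ρ, hρ, hρc⟩ := ψ.2
    have hid : ∀ g, (ψ : G → ℂ) g = (ψ : G → ℂ) 1 → ρ g = LinearMap.id := fun g hg =>
      (eq_id_of_character_eq_finrank ρ g).1 (by rw [← ρ.char_one, hρc]; exact hg)
    have hone : (1 : Module.End ℂ (Fin d → ℂ)) = LinearMap.id := rfl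
    have key : ρ (x * y * (y * x)⁻¹) = ρ 1 := by
      rcases hcases ψ hψ with h | h
      · have h1 := hid x h
        rw [map_mul, map_mul, mul_inv_rev, map_mul, h1, ← hone, one_mul,
          show ρ x⁻¹ = 1 by
            have h2 : ρ x * ρ x⁻¹ = 1 := by rw [← map_mul, mul_inv_cancel, map_one]
            rwa [h1, ← hone, one_mul] at h2, one_mul, ← map_mul, mul_inv_cancel]
      · have h1 := hid y h
        rw [map_mul, map_mul, mul_inv_rev, map_mul, h1, ← hone, mul_one,
          show ρ y⁻¹ = 1 by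
            have h2 : ρ y * ρ y⁻¹ = 1 := by rw [← map_mul, mul_inv_cancel, map_one]
            rwa [h1, ← hone, one_mul] at h2, mul_one, ← map_mul, mul_inv_cancel]
    rw [← hρc]
    exact congrArg (LinearMap.trace ℂ _) key
  refine hex ⟨x * y, ?_, ?_⟩ <;>
    rw [hcomm.orderOf_mul_eq_mul_orderOf_of_coprime (by
      rw [hx, hy]; exact (Nat.coprime_primes hp hq).2 hpq), hx, hy]
  · exact dvd_mul_right p q
  · exact dvd_mul_left q p

/-- Some Sylow `p`-subgroup and some Sylow `q`-subgroup commute elementwise. -/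
def CommSylow (p q : ℕ) (G : Type u) [Group G] : Prop :=
  ∃ (P : Sylow p G) (Q : Sylow q G), ∀ x ∈ (P : Subgroup G), ∀ y ∈ (Q : Subgroup G), x * y = y * x

theorem CommSylow.symm {p q : ℕ} (h : CommSylow p q G) : CommSylow q p G := by
  obtain ⟨P, Q, h⟩ := h
  exact ⟨Q, P, fun y hy x hx => (h x hx y hy).symm⟩

theorem CommSylow.of_subgroup {p q : ℕ} [Fact p.Prime] [Fact q.Prime] (H : Subgroup G)
    (hp : ¬ p ∣ H.index) (hq : ¬ q ∣ H.index) (h : CommSylow p q H) : CommSylow p q G := by
  obtain ⟨P, Q, h⟩ := h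
  have key : ∀ {r : ℕ} [Fact r.Prime], ¬ r ∣ H.index → ∀ R : Sylow r H,
      ¬ r ∣ ((R : Subgroup H).map H.subtype).index := by
    intro r _ hr R
    rw [Subgroup.index_map_subtype]
    exact fun h => ((Fact.out : r.Prime).dvd_mul.1 h).elim R.not_dvd_index hr
  refine ⟨(P.2.map H.subtype).toSylow (key hp P), (Q.2.map H.subtype).toSylow (key hq Q), ?_⟩
  intro x hx y hy
  obtain ⟨x', hx', rfl⟩ : x ∈ (P : Subgroup H).map H.subtype := hx
  obtain ⟨y', hy', rfl⟩ : y ∈ (Q : Subgroup H).map H.subtype := hy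
  exact congrArg Subtype.val (h x' hx' y' hy')

/-- The transfer to an abelian Sylow subgroup on central elements of it. -/
theorem exists_transfer {p : ℕ} [Fact p.Prime] (P : Sylow p G)
    (hab : ∀ x ∈ (P : Subgroup G), ∀ y ∈ (P : Subgroup G), x * y = y * x) :
    ∃ (f : G →* (P : Subgroup G)), ∀ z : (P : Subgroup G), (z : G) ∈ Subgroup.center G →
      f (z : G) = 1 → z = 1 := by
  letI : CommGroup (P : Subgroup G) :=
    { (inferInstance : Group (P : Subgroup G)) with
      mul_comm := fun a b => Subtype.ext (hab a a.2 b b.2) }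
  refine ⟨MonoidHom.transfer (MonoidHom.id (P : Subgroup G)), fun z hz h1 => ?_⟩
  rw [MonoidHom.transfer_eq_pow _ _ (fun k g₀ _ => by
    rw [Subgroup.mem_center_iff] at hz
    have hzk : Commute g₀ ((z : G) ^ k) := (show Commute g₀ (z : G) from hz g₀).pow_right k
    rw [mul_assoc, ← hzk.eq, inv_mul_cancel_left])] at h1
  have h2 : z ^ (P : Subgroup G).index = 1 := Subtype.ext (congrArg Subtype.val h1)
  obtain ⟨k, hk⟩ := IsPGroup.iff_orderOf.1 P.2 z
  have h3 : orderOf z ∣ (P : Subgroup G).index := orderOf_dvd_of_pow_eq_one h2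
  rw [hk] at h3
  refine orderOf_eq_one_iff.1 (hk.trans ?_)
  exact Nat.eq_one_of_dvd_coprimes
    (Nat.Coprime.pow_left k ((Fact.out : p.Prime).coprime_iff_not_dvd.2 P.not_dvd_index)) dvd_rfl h3

theorem commSylow_aux (N : ℕ) : ∀ (m : ℕ) (G : Type u) [Group G] [Finite G], Nat.card G = m →
    ∀ χ : G → ℂ, Cfsg.IsCharacter G χ → (∀ g : G, χ g = χ 1 → g = 1) → deg χ ≤ N →
    ∀ p q : ℕ, p.Prime → q.Prime → p ≠ q → N + 1 < p → N + 1 < q → CommSylow p q G := by
  intro m
  induction m using Nat.strong_induction_on with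
  | _ m ih =>
  intro G _ _ hm χ hχ hfaith hN p q hp hq hpq hNp hNq
  classical
  subst hm
  haveI := Fact.mk hp
  haveI := Fact.mk hq
  have hsub : ∀ H : Subgroup G, H ≠ ⊤ → ∀ p q : ℕ, p.Prime → q.Prime → p ≠ q → N + 1 < p →
      N + 1 < q → CommSylow p q H := fun H hH =>
    ih (Nat.card H) (lt_of_le_of_ne H.card_le_card_group fun h => hH (Subgroup.eq_top_of_card_eq H h))
      H rfl _ (IsCharacter.restrict hχ H) (fun g hg => Subtype.ext (hfaith g (by simpa using hg)))
      (by simpa [deg] using hN)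
  -- a central element of order `p`
  have hcentral : ∀ p q : ℕ, p.Prime → q.Prime → p ≠ q → N + 1 < p → N + 1 < q →
      ∀ x : G, orderOf x = p → x ∈ Subgroup.center G → CommSylow p q G := by
    intro p q hp hq hpq hNp hNq x hx hxc
    haveI := Fact.mk hp
    haveI := Fact.mk hq
    obtain ⟨P, hxP⟩ := (IsPGroup.of_card (n := 1) (by rw [Nat.card_zpowers, hx, pow_one]) :
      IsPGroup p (Subgroup.zpowers x)).exists_le_sylow
    have hxP' : x ∈ (P : Subgroup G) := hxP (Subgroup.mem_zpowers x)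
    have hab := sylow_comm hχ hfaith (p := p) (by omega) P
    obtain ⟨f, hf⟩ := exists_transfer P hab
    set K := f.ker with hK
    have hKtop : K ≠ ⊤ := fun h => by
      have hx' : x ∈ f.ker := by rw [← hK, h]; exact Subgroup.mem_top x
      have h1 := hf ⟨x, hxP'⟩ hxc (MonoidHom.mem_ker.1 hx')
      have h2 : x = 1 := congrArg Subtype.val h1
      rw [h2, orderOf_one] at hx
      exact hp.one_lt.ne hx
    have hKidx : ∀ r : ℕ, r.Prime → r ∣ K.index → r = p := by
      intro r hr h
      obtain ⟨k, hk⟩ := IsPGroup.iff_card.1 P.2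
      have h1 : K.index ∣ p ^ k := by
        rw [hK, Subgroup.index_ker, ← hk]
        exact Subgroup.card_subgroup_dvd_card f.range
      exact (Nat.prime_dvd_prime_iff_eq hr hp).1 (hr.dvd_of_dvd_pow (h.trans h1))
    by_cases hpK : p ∣ Nat.card K
    · obtain ⟨P0, Q0, hPQ⟩ := hsub K hKtop p q hp hq hpq hNp hNq
      set P0' := (P0 : Subgroup K).map K.subtype with hP0'
      by_cases hcz : P0' ≤ Subgroup.center G
      · exfalso
        obtain ⟨R, hR⟩ := (P0.2.map K.subtype).exists_le_sylow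
        obtain ⟨g, hg⟩ := MulAction.exists_smul_eq G R P
        have hP0P : P0' ≤ (P : Subgroup G) := by
          intro z hz
          have h1 : z ∈ (R : Subgroup G) := hR hz
          rw [← hg, Sylow.coe_subgroup_smul]
          have h2 : (MulAut.conj g) z = z := by
            rw [MulAut.conj_apply, Subgroup.mem_center_iff.1 (hcz hz) g, mul_inv_cancel_right]
          have h3 := Subgroup.smul_mem_pointwise_smul z (MulAut.conj g) _ h1
          rwa [MulAut.smul_def, h2] at h3
        have hbot : (P0 : Subgroup K) = ⊥ := by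
          rw [eq_bot_iff]
          intro z hz
          have hz' : (z : G) ∈ P0' := Subgroup.mem_map_of_mem _ hz
          have h1 := hf ⟨z, hP0P hz'⟩ (hcz hz') z.2
          have h4 : (z : G) = 1 := congrArg (fun w : (P : Subgroup G) => (w : G)) h1
          exact Subgroup.mem_bot.2 (Subtype.ext h4)
        have h2 := P0.not_dvd_index
        rw [hbot, Subgroup.index_bot] at h2
        exact h2 hpK
      · set C := Subgroup.centralizer (P0' : Set G) with hC
        have hCtop : C ≠ ⊤ := fun h => hcz (Subgroup.centralizer_eq_top_iff_subset.1 h)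
        refine CommSylow.of_subgroup C ?_ ?_ (hsub C hCtop p q hp hq hpq hNp hNq)
        · obtain ⟨R, hR⟩ := (P0.2.map K.subtype).exists_le_sylow
          have hRab := sylow_comm hχ hfaith (p := p) (by omega) R
          have hle : (R : Subgroup G) ≤ C := fun r hr => Subgroup.mem_centralizer_iff.2
            fun z hz => hRab z (hR hz) r hr
          exact fun h => R.not_dvd_index (h.trans (Subgroup.index_dvd_of_le hle))
        · have hle : (Q0 : Subgroup K).map K.subtype ≤ C := by
            rintro _ ⟨y, hy, rfl⟩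
            refine Subgroup.mem_centralizer_iff.2 ?_
            rintro _ ⟨z, hz, rfl⟩
            exact congrArg Subtype.val (hPQ z hz y hy)
          intro h
          have h1 := h.trans (Subgroup.index_dvd_of_le hle)
          rw [Subgroup.index_map_subtype] at h1
          rcases hq.dvd_mul.1 h1 with h2 | h2
          · exact Q0.not_dvd_index h2
          · exact hpq (hKidx q hq h2).symm
    · -- `K` has order prime to `p`
      obtain ⟨Q0⟩ : Nonempty (Sylow q K) := inferInstance
      set Q := (Q0 : Subgroup K).map K.subtype with hQdef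
      have hQidx : ¬ q ∣ Q.index := by
        rw [hQdef, Subgroup.index_map_subtype]
        exact fun h => (hq.dvd_mul.1 h).elim Q0.not_dvd_index fun h2 => hpq (hKidx q hq h2).symm
      set H := Subgroup.normalizer (Q : Set G) with hH
      have hHp : ¬ p ∣ H.index := by
        intro h
        have hfr : H ⊔ K = ⊤ := Sylow.normalizer_sup_eq_top Q0
        have h1 : H.index ∣ Nat.card K := by
          have h2 : K.relIndex (H ⊔ K) = K.relIndex H := Subgroup.relIndex_sup_right H K
          rw [hfr, Subgroup.relIndex_top_right] at h2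
          obtain ⟨b, hb⟩ := h2 ▸ Subgroup.relIndex_dvd_card K H
          refine Dvd.intro b (Nat.eq_of_mul_eq_mul_right
            (Nat.pos_of_ne_zero (Subgroup.index_ne_zero_of_finite : K.index ≠ 0)) ?_)
          rw [mul_assoc, mul_comm b, ← hb, H.index_mul_card, K.card_mul_index]
        exact hpK (h.trans h1)
      have hHq : ¬ q ∣ H.index := fun h =>
        hQidx (h.trans (Subgroup.index_dvd_of_le Subgroup.le_normalizer))
      by_cases hHtop : H = ⊤
      · haveI : Q.Normal := Subgroup.normalizer_eq_top_iff.1 hHtop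
        set J := (P : Subgroup G) ⊔ Q with hJ
        have hJp : ¬ p ∣ J.index := fun h =>
          P.not_dvd_index (h.trans (Subgroup.index_dvd_of_le le_sup_left))
        have hJq : ¬ q ∣ J.index := fun h => hQidx (h.trans (Subgroup.index_dvd_of_le le_sup_right))
        by_cases hJtop : J = ⊤
        · -- the group is abelian
          have hQp : IsPGroup q Q := Q0.2.map _
          let Q' : Sylow q G := hQp.toSylow hQidx
          have hQab : ∀ a ∈ Q, ∀ b ∈ Q, a * b = b * a :=
            sylow_comm hχ hfaith (p := q) (by omega) Q'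
          have hidx : ∃ k, Q.index = p ^ k := by
            obtain ⟨k, hk⟩ := IsPGroup.iff_card.1 P.2
            have h1 : Q.index ∣ p ^ k := by
              rw [← hk, ← Subgroup.relIndex_top_right Q, ← hJtop, hJ,
                Subgroup.relIndex_sup_right]
              exact Subgroup.relIndex_dvd_card Q (P : Subgroup G)
            obtain ⟨b, -, hb⟩ := (Nat.dvd_prime_pow hp).1 h1
            exact ⟨b, hb⟩
          obtain ⟨k, hk⟩ := hidx
          obtain ⟨a, hdeg, hsep⟩ := exists_constituents hχ hfaith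
          refine ⟨P, Q', fun x _ y _ => mul_inv_eq_one.1 (hsep _ fun ψ hψ => ?_)⟩
          have hd := deg_le_of_ne_zero hdeg hψ
          obtain ⟨d, ρ, hρ, hρc⟩ := ψ.2
          haveI := hρ
          have h1 := Cfsg.Agent.S0169.result ρ Q hQab
          rw [hk, ← deg_character ρ, hρc] at h1
          obtain ⟨b, -, hb⟩ := (Nat.dvd_prime_pow hp).1 h1
          have hb0 : b = 0 := by
            by_contra hb0
            have : p ≤ p ^ b := Nat.le_self_pow hb0 p
            omega
          rw [hb0, pow_zero] at hb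
          obtain ⟨g, hg⟩ := exists_hom_of_deg_one (isCharacter_of_irr ψ.2)
            (by rw [irr_apply_one_eq_deg, hb, Nat.cast_one])
          rw [hg]
          simp only [map_mul, map_inv, map_one, mul_inv_rev, Units.val_mul, Units.val_one,
            Units.val_inv_eq_inv_val]
          field_simp [Units.ne_zero]
        · exact CommSylow.of_subgroup J hJp hJq (hsub J hJtop p q hp hq hpq hNp hNq)
      · exact CommSylow.of_subgroup H hHp hHq (hsub H hHtop p q hp hq hpq hNp hNq)
  -- the general case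
  by_cases hpG : p ∣ Nat.card G
  swap
  · obtain ⟨Q⟩ : Nonempty (Sylow q G) := inferInstance
    obtain ⟨P⟩ : Nonempty (Sylow p G) := inferInstance
    refine ⟨P, Q, fun x hx y _ => ?_⟩
    obtain ⟨k, hk⟩ := IsPGroup.iff_orderOf.1 P.2 ⟨x, hx⟩
    rw [← Subgroup.orderOf_coe] at hk
    have : k = 0 := by
      by_contra h
      exact hpG ((dvd_pow_self p h).trans (hk ▸ orderOf_dvd_natCard x))
    rw [this, pow_zero, orderOf_eq_one_iff] at hk
    simp only at hk
    rw [hk, one_mul, mul_one]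
  by_cases hqG : q ∣ Nat.card G
  swap
  · obtain ⟨Q⟩ : Nonempty (Sylow q G) := inferInstance
    obtain ⟨P⟩ : Nonempty (Sylow p G) := inferInstance
    refine ⟨P, Q, fun x _ y hy => ?_⟩
    obtain ⟨k, hk⟩ := IsPGroup.iff_orderOf.1 Q.2 ⟨y, hy⟩
    rw [← Subgroup.orderOf_coe] at hk
    have : k = 0 := by
      by_contra h
      exact hqG ((dvd_pow_self q h).trans (hk ▸ orderOf_dvd_natCard y))
    rw [this, pow_zero, orderOf_eq_one_iff] at hk
    simp only at hk
    rw [hk, one_mul, mul_one]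
  obtain ⟨x, y, hx, hy, hxy⟩ := exists_commuting hχ hfaith hp hq hpq (by omega) (by omega) hpG hqG
  set C := Subgroup.centralizer ({x} : Set G) with hC
  by_cases hCtop : C = ⊤
  · refine hcentral p q hp hq hpq hNp hNq x hx (Subgroup.mem_center_iff.2 fun g => ?_)
    exact Subgroup.mem_centralizer_singleton_iff.1 (hCtop ▸ Subgroup.mem_top g : g ∈ C)
  obtain ⟨P1, Q1, h1⟩ := hsub C hCtop p q hp hq hpq hNp hNq
  have hCp : ¬ p ∣ C.index := by
    obtain ⟨R, hR⟩ := (IsPGroup.of_card (n := 1) (by rw [Nat.card_zpowers, hx, pow_one]) :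
      IsPGroup p (Subgroup.zpowers x)).exists_le_sylow
    have hRab := sylow_comm hχ hfaith (p := p) (by omega) R
    have hle : (R : Subgroup G) ≤ C := fun r hr => Subgroup.mem_centralizer_singleton_iff.2
      (hRab r hr x (hR (Subgroup.mem_zpowers x)))
    exact fun h => R.not_dvd_index (h.trans (Subgroup.index_dvd_of_le hle))
  have hyC : y ∈ C := Subgroup.mem_centralizer_singleton_iff.2 hxy.symm.eq
  obtain ⟨Q2, hQ2⟩ := (IsPGroup.of_card (n := 1) (by rw [Nat.card_zpowers,
    ← Subgroup.orderOf_coe, hy, pow_one]) :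
      IsPGroup q (Subgroup.zpowers (⟨y, hyC⟩ : C))).exists_le_sylow
  obtain ⟨c, hc⟩ := MulAction.exists_smul_eq C Q1 Q2
  have hy1 : (⟨y, hyC⟩ : C) ∈ (Q2 : Subgroup C) := hQ2 (Subgroup.mem_zpowers _)
  rw [← hc, Sylow.coe_subgroup_smul] at hy1
  obtain ⟨w, hw, hwy⟩ := (Subgroup.mem_smul_pointwise_iff_exists _ _ _).1 hy1
  set D := Subgroup.centralizer ({y} : Set G) with hD
  by_cases hDtop : D = ⊤
  · refine (hcentral q p hq hp hpq.symm hNq hNp y hy (Subgroup.mem_center_iff.2 fun g => ?_)).symm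
    exact Subgroup.mem_centralizer_singleton_iff.1 (hDtop ▸ Subgroup.mem_top g : g ∈ D)
  refine CommSylow.of_subgroup D ?_ ?_ (hsub D hDtop p q hp hq hpq hNp hNq)
  · have hle : ((c • P1 : Sylow p C) : Subgroup C).map C.subtype ≤ D := by
      rintro _ ⟨u, hu, rfl⟩
      rw [Sylow.coe_subgroup_smul] at hu
      obtain ⟨v, hv, hvu⟩ := (Subgroup.mem_smul_pointwise_iff_exists _ _ _).1 hu
      refine Subgroup.mem_centralizer_singleton_iff.2 ?_
      have hcomm : u * (⟨y, hyC⟩ : C) = ⟨y, hyC⟩ * u := by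
        rw [← hwy, ← hvu, MulAut.smul_def, MulAut.smul_def, ← map_mul, ← map_mul, h1 v hv w hw]
      exact congrArg Subtype.val hcomm
    intro h
    have h3 := h.trans (Subgroup.index_dvd_of_le hle)
    rw [Subgroup.index_map_subtype] at h3
    exact (hp.dvd_mul.1 h3).elim (c • P1).not_dvd_index hCp
  · obtain ⟨R, hR⟩ := (IsPGroup.of_card (n := 1) (by rw [Nat.card_zpowers, hy, pow_one]) :
      IsPGroup q (Subgroup.zpowers y)).exists_le_sylow
    have hRab := sylow_comm hχ hfaith (p := q) (by omega) R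
    have hle : (R : Subgroup G) ≤ D := fun r hr => Subgroup.mem_centralizer_singleton_iff.2
      (hRab r hr y (hR (Subgroup.mem_zpowers y)))
    exact fun h => R.not_dvd_index (h.trans (Subgroup.index_dvd_of_le hle))

theorem hall_aux (N : ℕ) : ∀ (s : Finset ℕ), (∀ r ∈ s, r.Prime ∧ N + 1 < r) →
    ∀ (G : Type u) [Group G] [Finite G] (χ : G → ℂ), Cfsg.IsCharacter G χ →
    (∀ g : G, χ g = χ 1 → g = 1) → deg χ ≤ N →
    ∃ A : Subgroup G, (∀ x ∈ A, ∀ y ∈ A, x * y = y * x) ∧
      (∀ r : ℕ, r.Prime → r ∣ Nat.card A → r ∈ s) ∧ ∀ r ∈ s, ¬ r ∣ A.index := by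
  intro s
  induction s using Finset.induction_on with
  | empty =>
    intro _ G _ _ χ _ _ _
    refine ⟨⊥, fun x hx y hy => ?_, fun r hr h => ?_, fun r hr => absurd hr (Finset.notMem_empty r)⟩
    · rw [Subgroup.mem_bot.1 hx, Subgroup.mem_bot.1 hy]
    · rw [Subgroup.card_bot] at h
      exact absurd (Nat.dvd_one.1 h) hr.ne_one
  | insert p s hps ih =>
    intro hs G _ _ χ hχ hfaith hN
    obtain ⟨hp, hNp⟩ := hs p (Finset.mem_insert_self p s)
    have hs' : ∀ r ∈ s, r.Prime ∧ N + 1 < r := fun r hr => hs r (Finset.mem_insert_of_mem hr)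
    haveI := Fact.mk hp
    obtain ⟨P⟩ : Nonempty (Sylow p G) := inferInstance
    have hab := sylow_comm hχ hfaith (p := p) (by omega) P
    set C := Subgroup.centralizer ((P : Subgroup G) : Set G) with hC
    have hCidx : ∀ r ∈ s, ¬ r ∣ C.index := by
      intro r hr
      obtain ⟨hr', hNr⟩ := hs' r hr
      haveI := Fact.mk hr'
      obtain ⟨P', Q, hPQ⟩ := commSylow_aux N _ G rfl χ hχ hfaith hN p r hp hr'
        (fun h => hps (h ▸ hr)) hNp hNr
      obtain ⟨g, hg⟩ := MulAction.exists_smul_eq G P' P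
      have hle : ((g • Q : Sylow r G) : Subgroup G) ≤ C := by
        intro z hz
        rw [Sylow.coe_subgroup_smul] at hz
        obtain ⟨z', hz', rfl⟩ := (Subgroup.mem_smul_pointwise_iff_exists _ _ _).1 hz
        refine Subgroup.mem_centralizer_iff.2 fun a ha => ?_
        rw [SetLike.mem_coe, ← hg, Sylow.coe_subgroup_smul] at ha
        obtain ⟨a', ha', rfl⟩ := (Subgroup.mem_smul_pointwise_iff_exists _ _ _).1 ha
        rw [MulAut.smul_def, MulAut.smul_def, ← map_mul, ← map_mul, hPQ a' ha' z' hz']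
      exact fun h => (g • Q).not_dvd_index (h.trans (Subgroup.index_dvd_of_le hle))
    obtain ⟨A, hA, hAc, hAi⟩ := ih hs' C (fun c : C => χ c) (IsCharacter.restrict hχ C)
      (fun c hc => Subtype.ext (hfaith c (by simpa using hc))) (by simpa [deg] using hN)
    set A' := A.map C.subtype with hA'
    have hcom : ∀ a ∈ A', ∀ b ∈ (P : Subgroup G), a * b = b * a := by
      rintro _ ⟨a, -, rfl⟩ b hb
      exact ((Subgroup.mem_centralizer_iff.1 a.2) b hb).symm
    have hA'ab : ∀ a ∈ A', ∀ b ∈ A', a * b = b * a := by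
      rintro _ ⟨a, ha, rfl⟩ _ ⟨b, hb, rfl⟩
      exact congrArg Subtype.val (hA a ha b hb)
    have hnorm : A' ≤ Subgroup.normalizer ((P : Subgroup G) : Set G) := fun a ha => by
      rw [Subgroup.mem_normalizer_iff]
      intro b
      refine ⟨fun hb => by rw [hcom a ha b hb, mul_inv_cancel_right]; exact hb, fun hb => ?_⟩
      have h1 := hcom a ha _ hb
      have h2 : a * b * a⁻¹ = b := by
        have h3 : a * (a * b * a⁻¹) = a * b := by rw [h1, inv_mul_cancel_right]
        exact mul_left_cancel h3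
      rwa [h2] at hb
    refine ⟨A' ⊔ (P : Subgroup G), ?_, ?_, ?_⟩
    · rw [← Subgroup.closure_eq A', ← Subgroup.closure_eq (P : Subgroup G), ← Subgroup.closure_union]
      intro x hx y hy
      induction hx, hy using Subgroup.closure_induction₂ with
      | mem a b ha hb =>
        rcases ha with ha | ha <;> rcases hb with hb | hb
        · exact hA'ab a ha b hb
        · exact hcom a ha b hb
        · exact (hcom b hb a ha).symm
        · exact hab a ha b hb
      | one_left b _ => simp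
      | one_right a _ => simp
      | mul_left a a' b _ _ _ h h' => exact (Commute.mul_left h h').eq
      | mul_right a b b' _ _ _ h h' => exact (Commute.mul_right h h').eq
      | inv_left a b _ _ h => exact (Commute.inv_left h).eq
      | inv_right a b _ _ h => exact (Commute.inv_right h).eq
    · intro r hr h
      have hdvd : Nat.card (A' ⊔ (P : Subgroup G) : Subgroup G) ∣
          Nat.card A' * Nat.card (P : Subgroup G) := by
        have hf := Subgroup.card_range_dvd (MonoidHom.noncommCoprod A'.subtype (P : Subgroup G).subtype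
          fun a b => hcom a a.2 b b.2)
        erw [MonoidHom.noncommCoprod_range, Subgroup.range_subtype, Subgroup.range_subtype,
          Nat.card_prod] at hf
        exact hf
      rcases hr.dvd_mul.1 (h.trans hdvd) with h1 | h1
      · rw [hA', Subgroup.card_map_of_injective C.subtype_injective] at h1
        exact Finset.mem_insert_of_mem (hAc r hr h1)
      · obtain ⟨k, hk⟩ := IsPGroup.iff_card.1 P.2
        rw [hk] at h1
        rw [(Nat.prime_dvd_prime_iff_eq hr hp).1 (hr.dvd_of_dvd_pow h1)]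
        exact Finset.mem_insert_self p s
    · intro r hr h
      rcases Finset.mem_insert.1 hr with rfl | hr
      · exact P.not_dvd_index (h.trans (Subgroup.index_dvd_of_le le_sup_right))
      · have h1 := h.trans (Subgroup.index_dvd_of_le (le_sup_left : A' ≤ A' ⊔ (P : Subgroup G)))
        rw [hA', Subgroup.index_map_subtype] at h1
        exact ((hs' r hr).1.dvd_mul.1 h1).elim (hAi r hr) (hCidx r hr)

end Cfsg.Lib.Jordan
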