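import Mathlib
import Cfsg.Agent.Jordan.Close
import Cfsg.Agent.Chars.Values

/-!
# Multiplicities of eigenvalues from character values
-/

set_option autoImplicit false
set_option linter.unusedSectionVars false
set_option linter.style.haveILetI false

namespace Cfsg.Lib.Jordan

open Cfsg.Lib.Chars
open Module

universe u

variable {G : Type u} [Group G] [Fintype G] {n : ℕ} (ρ : Representation ℂ G (Fin n → ℂ))

theorem proj_trace_eq_finrank (g : G) {t : ℂ} (ht : t ^ orderOf g = 1) :
    LinearMap.trace ℂ _ (proj ρ g (orderOf g) t) =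
      (finrank ℂ (LinearMap.range (proj ρ g (orderOf g) t)) : ℂ) := by
  have hk0 : orderOf g ≠ 0 := (orderOf_pos g).ne'
  have ht0 : t ≠ 0 := by intro h0; rw [h0, zero_pow hk0] at ht; exact zero_ne_one ht
  set T := proj ρ g (orderOf g) t with hT
  have hproj : LinearMap.IsProj (LinearMap.range T) T := by
    refine ⟨fun y => LinearMap.mem_range_self T y, ?_⟩
    rintro _ ⟨w, rfl⟩
    have hpw : ∀ i : ℕ, ρ (g ^ i) (T w) = t ^ i • T w := fun i => by
      induction i with
      | zero => simp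
      | succ i ih =>
        rw [pow_succ', map_mul, Module.End.mul_apply, ih, map_smul, hT,
          rep_proj ρ (pow_orderOf_eq_one _) ht, smul_smul, ← pow_succ]
    have e1 : T (T w) = (orderOf g : ℂ)⁻¹ •
        ∑ i ∈ Finset.range (orderOf g), (t⁻¹) ^ i • ρ (g ^ i) (T w) := by
      simp only [hT, proj, LinearMap.smul_apply, LinearMap.sum_apply]
    rw [e1, Finset.sum_congr rfl (g := fun _ => T w) (fun i _ => by
        rw [hpw, smul_smul, ← mul_pow, inv_mul_cancel₀ ht0, one_pow, one_smul]),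
      Finset.sum_const, Finset.card_range, ← Nat.cast_smul_eq_nsmul ℂ, smul_smul,
      inv_mul_cancel₀ (Nat.cast_ne_zero.2 hk0), one_smul]
  exact hproj.trace

/-- The multiplicity of an eigenvalue from the values on the cyclic subgroup. -/
theorem count_eigs (g : G) {z : ℂ} (hz : z ^ orderOf g = 1) :
    ((eigs ρ g).count z : ℂ) * (orderOf g : ℂ) =
      ∑ i ∈ Finset.range (orderOf g), (z⁻¹) ^ i * ρ.character (g ^ i) := by
  classical
  set o := orderOf g with ho
  have ho0 : o ≠ 0 := (orderOf_pos g).ne'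
  haveI : NeZero o := ⟨ho0⟩
  have hζ := Complex.isPrimitiveRoot_exp o ho0
  set ζ := Complex.exp (2 * Real.pi * Complex.I / o)
  have hroot : ∀ j : ℕ, (ζ ^ j) ^ o = 1 := fun j => by
    rw [← pow_mul, mul_comm, pow_mul, hζ.pow_eq_one, one_pow]
  have hle : ∀ j ∈ Finset.range o,
      finrank ℂ (LinearMap.range (proj ρ g o (ζ ^ j))) ≤ (eigs ρ g).count (ζ ^ j) := by
    intro j _
    rw [eigs, Polynomial.count_roots]
    refine le_trans (Submodule.finrank_mono ?_) (LinearMap.finrank_eigenspace_le (ρ g) (ζ ^ j))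
    rintro _ ⟨v, rfl⟩
    rw [Module.End.mem_eigenspace_iff]
    exact rep_proj ρ (pow_orderOf_eq_one g) (hroot j) v
  have hsum1 : ∑ j ∈ Finset.range o, finrank ℂ (LinearMap.range (proj ρ g o (ζ ^ j))) = n := by
    apply Nat.cast_injective (R := ℂ)
    push_cast
    rw [← Finset.sum_congr rfl fun j _ => proj_trace_eq_finrank ρ g (hroot j), ← map_sum]
    rw [show ∑ j ∈ Finset.range o, proj ρ g o (ζ ^ j) = LinearMap.id from LinearMap.ext fun v => by
      rw [LinearMap.sum_apply]; exact sum_proj ρ ho0 hζ v, LinearMap.trace_id,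
      Module.finrank_fin_fun]
  have hsum2 : ∑ j ∈ Finset.range o, (eigs ρ g).count (ζ ^ j) = n := by
    have hinj : Set.InjOn (fun j => ζ ^ j) (Finset.range o : Set ℕ) := fun a ha b hb h =>
      hζ.pow_inj (Finset.mem_range.1 ha) (Finset.mem_range.1 hb) h
    rw [← Finset.sum_image (f := fun w => (eigs ρ g).count w) hinj, Multiset.sum_count_eq_card,
      card_eigs, Module.finrank_fin_fun]
    intro w hw
    obtain ⟨i, hi, rfl⟩ := hζ.eq_pow_of_pow_eq_one (pow_eq_one_of_mem_eigs ρ (pow_orderOf_eq_one g) hw)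
    exact Finset.mem_image.2 ⟨i, Finset.mem_range.2 hi, rfl⟩
  have heq := (Finset.sum_eq_sum_iff_of_le hle).1 (hsum1.trans hsum2.symm)
  obtain ⟨j, hj, rfl⟩ := hζ.eq_pow_of_pow_eq_one hz
  rw [← heq j (Finset.mem_range.2 hj), ← proj_trace_eq_finrank ρ g (hroot j)]
  simp only [proj, map_smul, map_sum, smul_eq_mul, ← ho]
  rw [mul_comm, ← mul_assoc, mul_inv_cancel₀ (Nat.cast_ne_zero.2 ho0), one_mul]
  rfl

end Cfsg.Lib.Jordan
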