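import Cfsg.Agent.Jordan.Close
import Cfsg.Agent.Jordan.EigCount
import Cfsg.Agent.Jordan.Blichfeldt
import Cfsg.Agent.Chars.Clifford
import Cfsg.Agent.Chars.Constituent
import Cfsg.Agent.Coprime.SolvableBasics
import Cfsg.Agent.Components.Cores

/-!
# Linear groups of degree less than twice a prime

A faithful irreducible group of degree `n < 2p`, `n ≠ p`, `p ≥ 7`, with a nonabelian Sylow `p`-subgroup is
monomial over a normal abelian subgroup, by Blichfeldt's sixty degree argument.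
-/

set_option autoImplicit false
set_option linter.unusedSectionVars false
set_option linter.style.haveILetI false

namespace Cfsg.Lib.Jordan.BelowTwoP

open Cfsg.Lib.Chars

universe u

/-- A nonabelian `p`-group in degree between `p` and `2p` has an element with two eigenvalues. -/
theorem exists_two_valued {P : Type u} [Group P] [Finite P] {p : ℕ} [Fact p.Prime] (hP : IsPGroup p P)
    {χ : P → ℂ} (hχ : Cfsg.IsCharacter P χ) (hfaith : ∀ g : P, χ g = χ 1 → g = 1)
    (hlt : deg χ < 2 * p) (hna : ∃ a b : P, a * b ≠ b * a) {ζ : ℂ} (hζ : IsPrimitiveRoot ζ p) :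
    p ≤ deg χ ∧ ∃ x : P, orderOf x = p ∧
      ∀ j : ℕ, χ (x ^ j) = (deg χ : ℂ) - p + p * ζ ^ j := by
  classical
  have hp := (Fact.out : p.Prime)
  letI := Fintype.ofFinite P
  haveI := hP.isNilpotent
  obtain ⟨a₀, b₀, hab⟩ := hna
  have hcne : commutator P ≠ ⊥ := fun h => hab (by
    have := Subgroup.commutator_mem_commutator (Subgroup.mem_top a₀) (Subgroup.mem_top b₀)
    rw [← commutator_def, h, Subgroup.mem_bot] at this
    exact commutatorElement_eq_one_iff_mul_comm.mp this)
  obtain ⟨z₁, hz₁, hz₁1⟩ := (Subgroup.ne_bot_iff_exists_ne_one).1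
    (Cfsg.Lib.Coprime.inf_center_ne_bot (commutator P) hcne)
    |> fun ⟨⟨z, hz⟩, h⟩ => (⟨z, hz, fun e => h (Subtype.ext e)⟩ : ∃ z, z ∈ commutator P ⊓ Subgroup.center P ∧ z ≠ 1)
  obtain ⟨k, hk⟩ : ∃ k, orderOf z₁ = p ^ (k + 1) := by
    obtain ⟨k, hk⟩ := IsPGroup.iff_orderOf.1 hP z₁
    rcases k with _ | k
    · exact absurd (orderOf_eq_one_iff.1 (by simpa using hk)) hz₁1
    · exact ⟨k, hk⟩
  set z := z₁ ^ p ^ k with hzdef
  have hzo : orderOf z = p := by
    have h := orderOf_pow_orderOf_div (orderOf_pos z₁).ne' (show p ∣ orderOf z₁ from hk ▸ dvd_pow_self p (by omega))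
    rwa [show orderOf z₁ / p = p ^ k by rw [hk, pow_succ, Nat.mul_div_cancel _ hp.pos]] at h
  obtain ⟨hzc, hzZ⟩ := Subgroup.mem_inf.1 (pow_mem hz₁ (p ^ k) : z ∈ commutator P ⊓ Subgroup.center P)
  have hz1 : z ≠ 1 := fun e => hp.ne_one (by rw [← hzo, e, orderOf_one])
  obtain ⟨m, hm⟩ := IsCharacter.exists_decomp hχ
  have hdeg : deg χ = ∑ θ : Cfsg.IrrCharacter P, m θ * deg (θ : P → ℂ) := by
    have h := congrFun hm 1
    simp only [Finset.sum_apply, Pi.smul_apply] at h
    simp only [irr_apply_one_eq_deg, nsmul_eq_mul] at h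
    rw [IsCharacter.apply_one_eq_deg hχ] at h
    exact_mod_cast h
  have hbig : ∀ θ : Cfsg.IrrCharacter P, deg (θ : P → ℂ) ≠ 1 → p ∣ deg (θ : P → ℂ) := by
    intro θ hθ
    obtain ⟨t, ht⟩ := IsPGroup.iff_card.1 hP
    obtain ⟨i, -, hi⟩ := (Nat.dvd_prime_pow hp).1 (ht ▸ IsIrrCharacter.deg_dvd θ.2)
    rcases i with _ | i
    · exact absurd (by simpa using hi) hθ
    · exact hi ▸ dvd_pow_self p (by omega)
  have hlin : ∀ θ : Cfsg.IrrCharacter P, deg (θ : P → ℂ) = 1 → ∀ g ∈ commutator P, (θ : P → ℂ) g = 1 := by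
    intro θ hθ g hg
    obtain ⟨f, hf⟩ := exists_hom_of_deg_one (isCharacter_of_irr θ.2)
      (by rw [irr_apply_one_eq_deg, hθ, Nat.cast_one])
    have : f g = 1 := Abelianization.commutator_subset_ker f hg
    simp [hf, this]
  obtain ⟨θ₀, hθ₀m, hθ₀⟩ : ∃ θ : Cfsg.IrrCharacter P, m θ ≠ 0 ∧ deg (θ : P → ℂ) ≠ 1 := by
    by_contra hall
    push Not at hall
    apply hz1
    apply hfaith
    rw [hm]
    simp only [Finset.sum_apply, Pi.smul_apply]
    refine Finset.sum_congr rfl fun θ _ => ?_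
    by_cases h : m θ = 0
    · simp [h]
    · rw [hlin θ (hall θ h) z hzc, irr_apply_one_eq_deg, hall θ h, Nat.cast_one]
  have hrest := hdeg
  rw [← Finset.add_sum_erase Finset.univ _ (Finset.mem_univ θ₀)] at hrest
  obtain ⟨c, hc⟩ := hbig θ₀ hθ₀
  have hc0 : 0 < c := Nat.pos_of_ne_zero fun h => (deg_irr_pos θ₀).ne' (by rw [hc, h, mul_zero])
  have hle : p * 1 ≤ p * c := Nat.mul_le_mul_left p hc0
  have hm1 : m θ₀ = 1 ∧ deg (θ₀ : P → ℂ) = p := by
    have h1 : m θ₀ * deg (θ₀ : P → ℂ) < 2 * p := by omega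
    rw [hc, ← mul_assoc, mul_comm (m θ₀) p, mul_assoc, mul_comm 2 p] at h1
    have h2 := Nat.lt_of_mul_lt_mul_left h1
    have h3 : 1 * 1 ≤ m θ₀ * c := Nat.mul_le_mul (Nat.pos_of_ne_zero hθ₀m) hc0
    have h4 : m θ₀ * c = 1 := by omega
    obtain ⟨h5, h6⟩ := mul_eq_one.1 h4
    exact ⟨h5, by rw [hc, h6, mul_one]⟩
  obtain ⟨hm1, hd0⟩ := hm1
  rw [hm1, one_mul, hd0] at hrest
  have hothers : ∀ θ : Cfsg.IrrCharacter P, θ ≠ θ₀ → m θ ≠ 0 → deg (θ : P → ℂ) = 1 := by
    intro θ hne hmθ
    by_contra h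
    have h1 : m θ * deg (θ : P → ℂ) ≤ ∑ x ∈ Finset.univ.erase θ₀, m x * deg (x : P → ℂ) :=
      Finset.single_le_sum (f := fun x => m x * deg (x : P → ℂ)) (fun _ _ => Nat.zero_le _)
        (Finset.mem_erase.2 ⟨hne, Finset.mem_univ _⟩)
    have h2 := Nat.le_of_dvd (Nat.mul_pos (Nat.pos_of_ne_zero hmθ) (deg_irr_pos θ))
      (dvd_mul_of_dvd_right (hbig θ h) _)
    omega
  have hval : ∀ g ∈ commutator P, χ g = (θ₀ : P → ℂ) g + ((deg χ : ℂ) - p) := by
    intro g hg
    conv_lhs => rw [hm]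
    simp only [Finset.sum_apply, Pi.smul_apply]
    rw [← Finset.add_sum_erase Finset.univ _ (Finset.mem_univ θ₀), hm1, one_smul]
    congr 1
    rw [eq_sub_iff_add_eq, hrest, Nat.cast_add, Nat.cast_sum, add_comm (p : ℂ)]
    congr 1
    refine Finset.sum_congr rfl fun θ hθ => ?_
    by_cases h : m θ = 0
    · simp [h]
    · have h1 := hothers θ (Finset.ne_of_mem_erase hθ) h
      rw [hlin θ h1 g hg, h1]
      simp
  obtain ⟨d, σ, hσ, hσc⟩ := θ₀.2
  haveI := hσ
  obtain ⟨ω, hω⟩ := schur_scalar σ (σ z) fun g v => by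
    rw [← Module.End.mul_apply, ← map_mul, ← Subgroup.mem_center_iff.1 hzZ g, map_mul,
      Module.End.mul_apply]
  have hd : (d : ℂ) = p := by
    have := congrArg (fun f => deg f) hσc
    simp only [deg_character, Module.finrank_fin_fun] at this
    rw [this, hd0]
  have hpow : ∀ j, σ (z ^ j) = ω ^ j • LinearMap.id := fun j => by
    induction j with
    | zero => simp; rfl
    | succ j ih =>
      rw [pow_succ', map_mul, ih, hω, pow_succ']
      refine LinearMap.ext fun v => ?_
      simp [smul_smul, Module.End.mul_apply, mul_comm]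
  have hθz : ∀ j, (θ₀ : P → ℂ) (z ^ j) = ω ^ j * p := fun j => by
    rw [← hσc, Representation.character, hpow, map_smul, LinearMap.trace_id, Module.finrank_fin_fun, hd,
      smul_eq_mul]
  have hωp : ω ^ p = 1 := by
    have h := hθz p
    rw [← hzo, pow_orderOf_eq_one, hzo, irr_apply_one_eq_deg, hd0] at h
    exact (mul_eq_right₀ (Nat.cast_ne_zero.2 hp.ne_zero)).1 h.symm
  have hω1 : ω ≠ 1 := fun e => hz1 (hfaith z (by
    have h := hθz 1
    rw [pow_one, e, one_pow, one_mul] at h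
    rw [hval z hzc, h, IsCharacter.apply_one_eq_deg hχ]
    ring))
  have hωprim : IsPrimitiveRoot ω p := by
    have h := IsPrimitiveRoot.orderOf ω
    rwa [orderOf_eq_prime hωp hω1] at h
  obtain ⟨i, hi, hiζ⟩ := hωprim.eq_pow_of_pow_eq_one hζ.pow_eq_one
  refine ⟨by omega, z ^ i, ?_, fun j => ?_⟩
  · have hcop : Nat.Coprime p i := (Nat.Prime.coprime_iff_not_dvd hp).2 fun h => by
      obtain ⟨r, rfl⟩ := h
      rw [pow_mul, hωp, one_pow] at hiζ
      exact hζ.ne_one hp.one_lt hiζ.symm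
    rw [Nat.Coprime.orderOf_pow (by rwa [hzo]), hzo]
  · rw [← pow_mul, hval _ (pow_mem hzc _), hθz, pow_mul, hiζ]
    ring

theorem sum_pow_mul {p : ℕ} {s : ℂ} (hs : s ^ p = 1) (hs1 : s ≠ 1) :
    ∑ j ∈ Finset.range p, s ^ j = 0 := by
  rw [geom_sum_eq hs1, hs, sub_self, zero_div]

theorem norm_root_sub_one_lt {p : ℕ} (hp : 7 ≤ p) :
    ‖Complex.exp (2 * Real.pi * Complex.I / p) - 1‖ < 1 := by
  have h := Real.norm_exp_I_mul_ofReal_sub_one_le (x := 2 * Real.pi / p)
  rw [show Complex.I * ((2 * Real.pi / p : ℝ) : ℂ) = 2 * Real.pi * Complex.I / p by push_cast; ring] at h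
  refine lt_of_le_of_lt h ?_
  have hp' : (7 : ℝ) ≤ p := by exact_mod_cast hp
  rw [Real.norm_eq_abs, abs_of_nonneg (by positivity), div_lt_one (by linarith)]
  linarith [Real.pi_lt_d2]

variable {G : Type u} [Group G] [Fintype G] {p n : ℕ} [Fact p.Prime]

/-- The conjugates of an element with two eigenvalues `1` and a primitive root generate an abelian group. -/
theorem commute_conjugates (hp7 : 7 ≤ p) (ρ : Representation ℂ G (Fin n → ℂ)) (hinj : Function.Injective ρ)
    {x : G} (hx : orderOf x = p)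
    (hval : ∀ j : ℕ, ρ.character (x ^ j) =
      (n : ℂ) - p + p * Complex.exp (2 * Real.pi * Complex.I / p) ^ j) (g h : G) :
    Commute (g * x * g⁻¹) (h * x * h⁻¹) := by
  have hp := (Fact.out : p.Prime)
  set ζ := Complex.exp (2 * Real.pi * Complex.I / p) with hζdef
  have hζ : IsPrimitiveRoot ζ p := Complex.isPrimitiveRoot_exp p hp.ne_zero
  have hn := norm_root_sub_one_lt hp7
  rw [← hζdef] at hn
  set c : ℂ := (1 + ζ) / 2 with hc
  set r : ℝ := ‖ζ - 1‖ / 2 with hr
  have hr0 : 0 ≤ r := by positivity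
  have hb : Bound ρ x c r := by
    refine bound_of_eigen ρ hp.ne_zero (hx ▸ pow_orderOf_eq_one x) hζ hr0 fun j hj hex => ?_
    obtain ⟨v, hv⟩ := hex
    have ht : (ζ ^ j) ^ p = 1 := by rw [← pow_mul, mul_comm, pow_mul, hζ.pow_eq_one, one_pow]
    rcases eq_or_ne (ζ ^ j) 1 with h1 | h1
    · rw [h1, hc, hr, show (1 : ℂ) - (1 + ζ) / 2 = -((ζ - 1) / 2) by ring, norm_neg, norm_div]
      simp
    rcases eq_or_ne (ζ ^ j) ζ with h2 | h2
    · rw [h2, hc, hr, show ζ - (1 + ζ) / 2 = (ζ - 1) / 2 by ring, norm_div]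
      simp
    exfalso
    apply hv
    have htr := proj_trace_eq_finrank ρ x (t := ζ ^ j) (by rw [hx]; exact ht)
    rw [hx] at htr
    have h0 : LinearMap.trace ℂ _ (proj ρ x p (ζ ^ j)) = 0 := by
      simp only [proj, map_smul, map_sum, smul_eq_mul]
      refine mul_eq_zero_of_right _ ?_
      rw [Finset.sum_congr rfl (g := fun i => ((n : ℂ) - p) * ((ζ ^ j)⁻¹) ^ i + (p : ℂ) * ((ζ ^ j)⁻¹ * ζ) ^ i)
        fun i _ => by
          show _ * ρ.character (x ^ i) = _
          rw [hval, mul_pow]; ring, Finset.sum_add_distrib, ← Finset.mul_sum, ← Finset.mul_sum,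
        sum_pow_mul (by rw [inv_pow, ht, inv_one]) (fun e => h1 (inv_eq_one.1 e)),
        sum_pow_mul (by rw [mul_pow, inv_pow, ht, inv_one, hζ.pow_eq_one, one_mul]) (fun e => h2 ?_)]
      · ring
      · exact inv_mul_eq_one₀ (pow_ne_zero _ (hζ.ne_zero hp.ne_zero)) |>.1 e
    rw [h0] at htr
    have h3 : Module.finrank ℂ (LinearMap.range (proj ρ x p (ζ ^ j))) = 0 := by exact_mod_cast htr.symm
    rw [Submodule.finrank_eq_zero, LinearMap.range_eq_bot] at h3
    rw [h3]; rfl
  have hc2 : (1 : ℝ) / 2 ≤ ‖c‖ := by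
    have h1 := norm_sub_norm_le (1 : ℂ) ((1 : ℂ) - c)
    rw [sub_sub_cancel, norm_one, show (1 : ℂ) - c = -((ζ - 1) / 2) by rw [hc]; ring, norm_neg, norm_div] at h1
    norm_num at h1 ⊢
    linarith
  exact commute_of_close ρ hinj hc2 hr0 (by rw [hr]; linarith) hr0 (by rw [hr]; linarith)
    (bound_conj ρ hb g) (bound_conj ρ hb h)

/-- A normal abelian subgroup whose index divides `n!`. -/
theorem exists_abelian_normal (hp7 : 7 ≤ p) {χ : G → ℂ} (hirr : Cfsg.IsIrrCharacter G χ)
    (hfaith : ∀ g : G, χ g = χ 1 → g = 1) (hn : deg χ = n) (hn2 : n < 2 * p) (hnp : n ≠ p)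
    (P : Sylow p G) (hna : ∃ a b : (P : Subgroup G), a * b ≠ b * a) :
    ∃ N : Subgroup G, N.Normal ∧ (∀ a ∈ N, ∀ b ∈ N, a * b = b * a) ∧ N.index ∣ Nat.factorial n := by
  classical
  have hp := (Fact.out : p.Prime)
  have hχ := isCharacter_of_irr hirr
  set ζ := Complex.exp (2 * Real.pi * Complex.I / p) with hζdef
  have hζ : IsPrimitiveRoot ζ p := Complex.isPrimitiveRoot_exp p hp.ne_zero
  have hdegP : deg (fun y : (P : Subgroup G) => χ y) = n := by rw [← hn]; simp [deg]
  obtain ⟨hge, x₀, hx₀, hx₀v⟩ := exists_two_valued P.2 (IsCharacter.restrict hχ (P : Subgroup G))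
    (fun g hg => Subtype.ext (hfaith g (by simpa using hg))) (by omega) hna hζ
  rw [hdegP] at hge hx₀v
  set x : G := (x₀ : G) with hxdef
  have hx : orderOf x = p := by rw [hxdef, Subgroup.orderOf_coe, hx₀]
  have hxv : ∀ j : ℕ, χ (x ^ j) = (n : ℂ) - p + p * ζ ^ j := fun j => by simpa [hxdef] using hx₀v j
  obtain ⟨d, ρ, hρ, hρc⟩ := id hirr
  have hdn : d = n := by
    have := congrArg deg hρc
    rwa [deg_character, Module.finrank_fin_fun, hn] at this
  subst d
  haveI := hρ
  have hinj : Function.Injective ρ := (injective_iff_map_eq_one _).2 fun g hg => hfaith g (by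
    rw [← hρc]
    show LinearMap.trace ℂ _ (ρ g) = LinearMap.trace ℂ _ (ρ 1)
    rw [hg, map_one ρ])
  have hcomm := commute_conjugates hp7 ρ hinj hx (fun j => by rw [hρc, hxv, hζdef])
  set A : Subgroup G := Subgroup.normalClosure {x} with hA
  haveI hAn : A.Normal := Subgroup.normalClosure_normal
  have hxA : x ∈ A := Subgroup.subset_normalClosure rfl
  have hAab : ∀ a b : A, a * b = b * a := fun a b => by
    refine Subtype.ext ?_
    obtain ⟨a, ha⟩ := a
    obtain ⟨b, hb⟩ := b
    show a * b = b * a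
    rw [hA, Subgroup.normalClosure] at ha hb
    induction ha, hb using Subgroup.closure_induction₂ with
    | mem u v hu hv =>
      obtain ⟨_, h1, hu⟩ := Group.mem_conjugatesOfSet_iff.1 hu
      obtain ⟨_, h2, hv⟩ := Group.mem_conjugatesOfSet_iff.1 hv
      rw [Set.mem_singleton_iff] at h1 h2
      subst h1 h2
      obtain ⟨g, rfl⟩ := isConj_iff.1 hu
      obtain ⟨h, rfl⟩ := isConj_iff.1 hv
      exact hcomm g h
    | one_left b _ => simp
    | one_right a _ => simp
    | mul_left a a' b _ _ _ h h' => exact (Commute.mul_left h h').eq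
    | mul_right a b b' _ _ _ h h' => exact (Commute.mul_right h h').eq
    | inv_left a b _ _ h => exact (Commute.inv_left h).eq
    | inv_right a b _ _ h => exact (Commute.inv_right h).eq
  letI : Fintype A := Fintype.ofFinite A
  have hirrA : ∀ {φ : A → ℂ}, Cfsg.IsIrrCharacter A φ → ∃ f : A →* ℂˣ, φ = fun a => (f a : ℂ) :=
    fun hφ => exists_hom_of_deg_one (isCharacter_of_irr hφ) (irr_deg_one_of_comm hAab hφ)
  have hχ1 : χ 1 ≠ 0 := IsIrrCharacter.apply_one_ne_zero hirr
  obtain ⟨θ, hθ, hθc⟩ := exists_constituent A hχ hχ1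
  obtain ⟨e, he⟩ := IsCharacter.exists_mult (IsCharacter.restrict hχ A) hθ
  have hcl := clifford A hirr hθ hθc
  rw [he] at hcl
  set O := conjOrbit A θ with hO
  have horb : ∀ ψ ∈ O, Cfsg.IsIrrCharacter A ψ := fun ψ hψ => by
    obtain ⟨g, rfl⟩ := (mem_conjOrbit A).mp hψ
    exact IsIrrCharacter.conjN hθ g
  have hres : ∀ a : A, χ (a : G) = (e : ℂ) * ∑ ψ ∈ O, ψ a := fun a => by
    have := congrFun hcl a
    simpa [Finset.sum_apply] using this
  have hcard : n = e * O.card := by
    have h := hres 1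
    rw [OneMemClass.coe_one, IsCharacter.apply_one_eq_deg hχ, hn, Finset.sum_congr rfl (g := fun _ => (1 : ℂ))
      fun ψ hψ => by
        obtain ⟨f, rfl⟩ := hirrA (horb ψ hψ); simp] at h
    simp at h
    exact_mod_cast h
  have he1 : e = 1 := by
    set xA : A := ⟨x, hxA⟩ with hxA'
    have hcount : (e : ℂ) * ((O.filter fun ψ => ψ xA = ζ).card : ℂ) * p = (p : ℂ) * p := by
      have hsum : ∑ j ∈ Finset.range p, (ζ⁻¹) ^ j * χ (x ^ j) = (p : ℂ) * p := by
        rw [Finset.sum_congr rfl (g := fun j => ((n : ℂ) - p) * (ζ⁻¹) ^ j + (p : ℂ) * (ζ⁻¹ * ζ) ^ j)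
          fun j _ => by rw [hxv, mul_pow]; ring, Finset.sum_add_distrib, ← Finset.mul_sum, ← Finset.mul_sum,
          sum_pow_mul (by rw [inv_pow, hζ.pow_eq_one, inv_one]) (fun h => hζ.ne_one hp.one_lt (inv_eq_one.1 h)),
          inv_mul_cancel₀ (hζ.ne_zero hp.ne_zero)]
        simp
      rw [← hsum, mul_assoc, Finset.card_filter, Nat.cast_sum, Finset.sum_mul, Finset.mul_sum]
      rw [Finset.sum_congr (s₁ := Finset.range p) rfl (g := fun j : ℕ => ∑ ψ ∈ O, (e : ℂ) * (ζ⁻¹ * ψ xA) ^ j) fun j _ => by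
        have h := hres (xA ^ j)
        rw [SubmonoidClass.coe_pow] at h
        rw [show χ (x ^ j) = _ from h, Finset.mul_sum, Finset.mul_sum]
        refine Finset.sum_congr rfl fun ψ hψ => ?_
        obtain ⟨f, rfl⟩ := hirrA (horb ψ hψ)
        simp [mul_pow]; ring, Finset.sum_comm]
      refine Finset.sum_congr rfl fun ψ hψ => ?_
      rw [← Finset.mul_sum]
      congr 1
      by_cases hψζ : ψ xA = ζ
      · rw [if_pos hψζ, hψζ, inv_mul_cancel₀ (hζ.ne_zero hp.ne_zero)]; simp
      · rw [if_neg hψζ, Nat.cast_zero, zero_mul, sum_pow_mul]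
        · rw [mul_pow, inv_pow, hζ.pow_eq_one, inv_one, one_mul]
          obtain ⟨f, rfl⟩ := hirrA (horb ψ hψ)
          have hxp : xA ^ p = 1 := Subtype.ext (by
            rw [SubmonoidClass.coe_pow, OneMemClass.coe_one, ← hx]; exact pow_orderOf_eq_one x)
          rw [← Units.val_pow_eq_pow_val, ← map_pow, hxp, map_one, Units.val_one]
        · exact fun h => hψζ ((inv_mul_eq_one₀ (hζ.ne_zero hp.ne_zero)).1 h).symm
    have hep : e * (O.filter fun ψ => ψ xA = ζ).card = p := by
      have h := mul_right_cancel₀ (Nat.cast_ne_zero.2 hp.ne_zero) hcount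
      exact_mod_cast h
    rcases (Nat.dvd_prime hp).1 (Dvd.intro _ hep) with h | h
    · exact h
    · exfalso
      subst h
      rcases (show O.card = 0 ∨ O.card = 1 ∨ 2 ≤ O.card by omega) with h | h | h
      · rw [h, mul_zero] at hcard; omega
      · rw [h, mul_one] at hcard; exact hnp hcard
      · have := Nat.mul_le_mul_left e h
        omega
  subst he1
  rw [one_mul] at hcard
  -- the stabiliser of the constituents
  let act : G →* Equiv.Perm O :=
    { toFun := fun g =>
        { toFun := fun ψ => ⟨conjN A g⁻¹ ψ, by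
            obtain ⟨a, ha⟩ := (mem_conjOrbit A).mp ψ.2
            exact (mem_conjOrbit A).mpr ⟨a * g⁻¹, by rw [conjN_mul, ha]⟩⟩
          invFun := fun ψ => ⟨conjN A g ψ, by
            obtain ⟨a, ha⟩ := (mem_conjOrbit A).mp ψ.2
            exact (mem_conjOrbit A).mpr ⟨a * g, by rw [conjN_mul, ha]⟩⟩
          left_inv := fun ψ => Subtype.ext (by
            show conjN A g (conjN A g⁻¹ _) = _
            rw [← conjN_mul, inv_mul_cancel, conjN_one])
          right_inv := fun ψ => Subtype.ext (by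
            show conjN A g⁻¹ (conjN A g _) = _
            rw [← conjN_mul, mul_inv_cancel, conjN_one]) }
      map_one' := Equiv.ext fun ψ => Subtype.ext (by
        show conjN A 1⁻¹ _ = _
        rw [inv_one, conjN_one]; rfl)
      map_mul' := fun a b => Equiv.ext fun ψ => Subtype.ext (by
        show conjN A (a * b)⁻¹ _ = conjN A a⁻¹ (conjN A b⁻¹ _)
        rw [← conjN_mul, mul_inv_rev]) }
  set N := act.ker with hN
  have hNcent : ∀ g ∈ N, ∀ a : A, g * (a : G) = (a : G) * g := by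
    intro g hg a
    have hfix : ∀ ψ ∈ O, conjN A g⁻¹ ψ = ψ := fun ψ hψ => by
      have h := congrArg (fun σ : Equiv.Perm O => (σ ⟨ψ, hψ⟩ : A → ℂ)) (MonoidHom.mem_ker.1 hg)
      exact h
    set b : A := ⟨g⁻¹ * a * g⁻¹⁻¹, hAn.conj_mem _ a.2 g⁻¹⟩ with hb
    have hsame : χ ((b * a⁻¹ : A) : G) = χ 1 := by
      rw [hres, show (1 : G) = ((1 : A) : G) from rfl, hres]
      congr 1
      refine Finset.sum_congr rfl fun ψ hψ => ?_
      obtain ⟨f, rfl⟩ := hirrA (horb ψ hψ)
      simp only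
      have h : ((f b : ℂˣ) : ℂ) = f a := congrFun (hfix _ hψ) a
      rw [map_mul, map_inv, Units.ext h, mul_inv_cancel, map_one]
    have h1 := hfaith _ hsame
    rw [Subgroup.coe_mul, Subgroup.coe_inv, mul_inv_eq_one, hb] at h1
    have h2 : g⁻¹ * (a : G) * g = a := by simpa using h1
    calc g * (a : G) = g * (g⁻¹ * a * g) := by rw [h2]
      _ = a * g := by group
  have hAN : A ≤ N := fun a ha => MonoidHom.mem_ker.2 (Equiv.ext fun ψ => Subtype.ext (by
    obtain ⟨f, hf⟩ := hirrA (horb _ ψ.2)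
    show conjN A a⁻¹ _ = _
    funext b
    simp only [Equiv.Perm.coe_one, id_eq, hf, conjN, inv_inv]
    congr 1
    congr 1
    refine Subtype.ext ?_
    have := congrArg Subtype.val (hAab ⟨a⁻¹, inv_mem ha⟩ b)
    simp only [Subgroup.coe_mul] at this
    show a⁻¹ * b * a = b
    rw [this, inv_mul_cancel_right]))
  refine ⟨N, MonoidHom.normal_ker act, ?_, ?_⟩
  · letI : Fintype N := Fintype.ofFinite N
    have hχN := IsCharacter.restrict hχ N
    obtain ⟨m, hm⟩ := IsCharacter.exists_decomp hχN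
    let ι : A →* N := Subgroup.inclusion hAN
    have hlin : ∀ η : Cfsg.IrrCharacter N, m η ≠ 0 → (η : N → ℂ) 1 = 1 := by
      intro η hη
      obtain ⟨t, σ, hσ, hσc⟩ := η.2
      haveI := hσ
      have hsc : ∀ a : A, ∃ c : ℂ, σ (ι a) = c • LinearMap.id := fun a =>
        schur_scalar σ _ fun g v => by
          rw [← Module.End.mul_apply, ← map_mul, show ι a * g = g * ι a from
            Subtype.ext (hNcent g g.2 a).symm, map_mul, Module.End.mul_apply]
      choose c hc using hsc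
      have ht : (t : ℂ) = (η : N → ℂ) 1 := by rw [← hσc, Representation.char_one, Module.finrank_fin_fun]
      haveI : Nontrivial (Fin t → ℂ) := nontrivial_of_irreducible σ
      have hcinj : ∀ u v : ℂ, u • (LinearMap.id : (Fin t → ℂ) →ₗ[ℂ] _) = v • LinearMap.id → u = v :=
        fun u v h => by
          obtain ⟨w, hw⟩ := exists_ne (0 : Fin t → ℂ)
          exact smul_left_injective ℂ hw (LinearMap.congr_fun h w)
      have hc1 : c 1 = 1 := hcinj _ _ (by rw [← hc, map_one, map_one, one_smul]; rfl)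
      have hcm : ∀ a b, c (a * b) = c a * c b := fun a b => hcinj _ _ (by
        rw [← hc, map_mul, map_mul, hc, hc]
        refine LinearMap.ext fun v => ?_
        simp [smul_smul, Module.End.mul_apply, mul_comm])
      let f : A →* ℂˣ := MonoidHom.toHomUnits { toFun := c, map_one' := hc1, map_mul' := hcm }
      have hf : Cfsg.IsIrrCharacter A (fun a => (f a : ℂ)) := isIrrCharacter_linear f
      have hηA : (fun a : A => (η : N → ℂ) (ι a)) = (t : ℂ) • fun a => (f a : ℂ) := by
        funext a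
        rw [← hσc, Representation.character, hc, map_smul, LinearMap.trace_id, Module.finrank_fin_fun]
        simp [f, mul_comm]
      choose k hk using fun φ : Cfsg.IrrCharacter N =>
        IsCharacter.exists_mult (IsCharacter.comp_hom (isCharacter_of_irr φ.2) ι) hf
      have hkη : k η = t := by
        have h := hk η
        rw [hηA, classInner_smul_left, classInner_self_irr hf, mul_one] at h
        exact_mod_cast h.symm
      have hA' : (fun a : A => χ a) = ∑ φ : Cfsg.IrrCharacter N, m φ • fun a => (φ : N → ℂ) (ι a) := by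
        funext a
        have h := congrFun hm (ι a)
        simp only [Finset.sum_apply, Pi.smul_apply] at h ⊢
        exact h
      have hle : Cfsg.classInner (fun a : A => χ a) (fun a => (f a : ℂ)) =
          ((∑ φ : Cfsg.IrrCharacter N, m φ * k φ : ℕ) : ℂ) := by
        rw [hA', classInner_sum_left, Nat.cast_sum]
        exact Finset.sum_congr rfl fun φ _ => by rw [classInner_nsmul_left, hk, Nat.cast_mul]
      have hone : Cfsg.classInner (fun a : A => χ a) (fun a => (f a : ℂ)) = if (fun a => (f a : ℂ)) ∈ O then 1 else 0 := by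
        rw [hcl, Nat.cast_one, one_smul, classInner_sum_left]
        rw [Finset.sum_congr rfl fun ψ hψ => classInner_irrChar (horb ψ hψ) hf, Finset.sum_ite_eq']
      rw [hle] at hone
      have hmk : m η * k η ≤ 1 := by
        refine (Finset.single_le_sum (f := fun φ => m φ * k φ) (fun _ _ => Nat.zero_le _)
          (Finset.mem_univ η)).trans ?_
        split_ifs at hone <;> norm_cast at hone <;> omega
      have ht0 : 0 < t := by
        have := finrank_pos_of_irreducible σ
        rwa [Module.finrank_fin_fun] at this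
      have h2 := Nat.mul_le_mul (Nat.pos_of_ne_zero hη) (le_refl t)
      rw [hkη] at hmk
      rw [← ht, show t = 1 by omega, Nat.cast_one]
    intro a ha b hb
    set a' : N := ⟨a, ha⟩
    set b' : N := ⟨b, hb⟩
    have h : (fun y : N => χ y) (a' * b' * a'⁻¹ * b'⁻¹) = (fun y : N => χ y) 1 := by
      rw [hm]
      simp only [Finset.sum_apply, Pi.smul_apply]
      refine Finset.sum_congr rfl fun η _ => ?_
      by_cases hη : m η = 0
      · simp [hη]
      obtain ⟨f, hf⟩ := exists_hom_of_deg_one (isCharacter_of_irr η.2) (hlin η hη)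
      simp only [hf, map_mul, map_inv, map_one, mul_inv_cancel_comm, mul_inv_cancel, Units.val_one]
    have h' : a * b * a⁻¹ * b⁻¹ = 1 := hfaith _ (by simpa [a', b'] using h)
    rwa [mul_inv_eq_one, mul_inv_eq_iff_eq_mul] at h'
  · rw [Subgroup.index_ker]
    refine (Subgroup.card_subgroup_dvd_card _).trans ?_
    rw [Nat.card_perm, Nat.card_eq_finsetCard, ← hcard]

/-- The index of the `p`-core is not divisible by `p²`. -/
theorem not_sq_dvd_index (hp7 : 7 ≤ p) {χ : G → ℂ} (hirr : Cfsg.IsIrrCharacter G χ)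
    (hfaith : ∀ g : G, χ g = χ 1 → g = 1) (hn : deg χ = n) (hn2 : n < 2 * p) (hnp : n ≠ p)
    (P : Sylow p G) (hna : ∃ a b : (P : Subgroup G), a * b ≠ b * a) :
    ¬ p ^ 2 ∣ (Cfsg.pCore p G).index := by
  classical
  have hp := (Fact.out : p.Prime)
  obtain ⟨N, hNn, hNab, hNi⟩ := exists_abelian_normal hp7 hirr hfaith hn hn2 hnp P hna
  let T : Subgroup G :=
    { carrier := {a | a ∈ N ∧ ∃ k : ℕ, a ^ p ^ k = 1}
      one_mem' := ⟨N.one_mem, 0, by simp⟩
      mul_mem' := fun {a b} ha hb => by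
        obtain ⟨ha, k, hk⟩ := ha
        obtain ⟨hb, l, hl⟩ := hb
        refine ⟨N.mul_mem ha hb, k + l, ?_⟩
        rw [(show Commute a b from hNab a ha b hb).mul_pow, pow_add, pow_mul, hk, one_pow, one_mul, mul_comm (p ^ k),
          pow_mul, hl, one_pow]
      inv_mem' := fun {a} ha => ⟨N.inv_mem ha.1, ha.2.imp fun k hk => by rw [inv_pow, hk, inv_one]⟩ }
  haveI : T.Normal := ⟨fun a ha g => ⟨hNn.conj_mem a ha.1 g, ha.2.imp fun k hk => by rw [conj_pow, hk]; group⟩⟩
  have hT : IsPGroup p T := fun a => a.2.2.imp fun k hk => Subtype.ext (by simpa using hk)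
  have hTN : T ≤ N := fun a ha => ha.1
  intro hd
  have hrel : ¬ p ∣ T.relIndex N := by
    intro h
    haveI : (T.subgroupOf N).Normal := (inferInstance : T.Normal).subgroupOf N
    obtain ⟨q, hq⟩ := exists_prime_orderOf_dvd_card' (G := N ⧸ T.subgroupOf N) p (by
      rwa [← Subgroup.index_eq_card])
    obtain ⟨a, rfl⟩ := QuotientGroup.mk_surjective q
    have h1 : a ^ p ∈ T.subgroupOf N := by
      rw [← QuotientGroup.eq_one_iff, QuotientGroup.mk_pow, ← hq, pow_orderOf_eq_one]
    obtain ⟨-, k, hk⟩ : (a : G) ^ p ∈ T := by simpa [Subgroup.mem_subgroupOf] using h1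
    have h2 : (QuotientGroup.mk a : N ⧸ T.subgroupOf N) = 1 := (QuotientGroup.eq_one_iff a).2
      ⟨a.2, k + 1, by rw [pow_succ', pow_mul]; exact hk⟩
    rw [h2, orderOf_one] at hq
    exact hp.ne_one hq.symm
  have h1 : p ^ 2 ∣ T.index := hd.trans (Subgroup.index_dvd_of_le (Cfsg.Lib.Components.le_pCore hT))
  rw [← Subgroup.relIndex_mul_index hTN] at h1
  have h2 : p ^ 2 ∣ N.index :=
    (Nat.Coprime.pow_left 2 ((Nat.Prime.coprime_iff_not_dvd hp).2 hrel)).dvd_of_dvd_mul_left h1
  have h3 := h2.trans hNi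
  rw [hp.pow_dvd_factorial_iff (Nat.log_lt_of_lt_pow' (b := p) (y := n) (x := 2) (by omega) (by nlinarith))] at h3
  simp at h3
  have : n / p ≤ 1 := by
    refine Nat.lt_succ_iff.1 ((Nat.div_lt_iff_lt_mul hp.pos).2 ?_); omega
  omega

end Cfsg.Lib.Jordan.BelowTwoP
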