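import Mathlib

/-!
# Jordan's counting argument, abstract form

`Z` is a central subgroup of order prime to `p`; centralizers of elements outside `Z` have an abelian
normal subgroup of order prime to `p` and bounded index.  The maximal "stable" abelian subgroups form a
trivial intersection family modulo `Z`, and the class equation then gives an abelian normal subgroup
of bounded index.
-/

set_option autoImplicit false
set_option linter.unusedSectionVars false
set_option linter.style.haveILetI false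

namespace Cfsg.Lib.Jordan.Modular

universe u

open Finset
open scoped Pointwise

/-- The subgroup generated by the `k`-th powers of a subgroup. -/
def powSub {G : Type u} [Group G] (B : Subgroup G) (k : ℕ) : Subgroup G :=
  Subgroup.closure ((fun b : G => b ^ k) '' (B : Set G))

/-- Thresholds. -/
def kap (c s : ℕ) : ℕ → ℕ
  | 0 => s + 2
  | j + 1 => (c * kap c s j).factorial + kap c s j + 2

theorem kap_lt_succ (c s j : ℕ) : kap c s j < kap c s (j + 1) := by
  simp only [kap]; omega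

theorem kap_strictMono (c s : ℕ) : StrictMono (kap c s) := strictMono_nat_of_lt_succ (kap_lt_succ c s)

/-- The bound of `core`. -/
def bound (n J Q L : ℕ) : ℕ :=
  kap (Q * (Q * J * (J.factorial ^ L) ^ n)) ((J.factorial ^ L) ^ n)
    (2 * (Q * J * (J.factorial ^ L) ^ n) + 1) + Q * J * (J.factorial ^ L) ^ n

theorem closure_commute {G : Type u} [Group G] {s : Set G} (h : ∀ a ∈ s, ∀ b ∈ s, Commute a b) :
    ∀ a ∈ Subgroup.closure s, ∀ b ∈ Subgroup.closure s, Commute a b := by
  have h1 : Subgroup.closure s ≤ Subgroup.centralizer (Subgroup.closure s : Set G) := by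
    rw [Subgroup.centralizer_closure, Subgroup.closure_le]
    exact fun a ha => Subgroup.mem_centralizer_iff.2 fun b hb => (h b hb a ha).eq
  exact fun a ha b hb => (Subgroup.mem_centralizer_iff.1 (h1 hb) a ha)

theorem coprime_of_closure {G : Type u} [Group G] [Finite G] {p : ℕ} [Fact p.Prime] {s : Set G}
    (h : ∀ a ∈ s, ∀ b ∈ s, Commute a b) (ho : ∀ a ∈ s, (orderOf a).Coprime p) :
    (Nat.card (Subgroup.closure s)).Coprime p := by
  have hp : p.Prime := Fact.out
  have hall : ∀ a ∈ Subgroup.closure s, (orderOf a).Coprime p := by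
    intro a ha
    induction ha using Subgroup.closure_induction with
    | mem a ha => exact ho a ha
    | one => simp
    | mul a b ha hb iha ihb =>
      exact Nat.Coprime.coprime_dvd_left
        ((closure_commute h a ha b hb).orderOf_mul_dvd_lcm.trans (Nat.lcm_dvd_mul _ _)) (iha.mul_left ihb)
    | inv a ha iha => rwa [orderOf_inv]
  refine (hp.coprime_iff_not_dvd.2 fun hd => ?_).symm
  obtain ⟨a, ha⟩ := exists_prime_orderOf_dvd_card' p hd
  have := hall a a.2
  rw [Subgroup.orderOf_coe, ha, Nat.coprime_self] at this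
  exact hp.one_lt.ne' this

theorem sum_dvd_of_invariant {H : Type*} [Group H] [Finite H] {Ω : Type*} [DecidableEq Ω] [MulAction H Ω]
    (f : Ω → ℕ) (M : ℕ) (hf : ∀ (h : H) (w : Ω), f (h • w) = f w) (s : Finset Ω)
    (hs : ∀ h : H, ∀ w ∈ s, h • w ∈ s)
    (hM : ∀ w ∈ s, Nat.card (MulAction.stabilizer H w) ∣ M * f w) :
    Nat.card H ∣ M * ∑ w ∈ s, f w := by
  classical
  induction s using Finset.strongInduction with
  | H s ih =>
    rcases s.eq_empty_or_nonempty with rfl | ⟨w, hw⟩
    · simp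
    have hfin : (MulAction.orbit H w).Finite := Set.finite_range _
    set o := hfin.toFinset with ho
    have hos : o ⊆ s := fun v hv => by
      obtain ⟨h, rfl⟩ := hfin.mem_toFinset.1 hv
      exact hs h w hw
    rw [← Finset.sum_sdiff hos, mul_add]
    refine dvd_add (ih (s \ o) (Finset.sdiff_ssubset hos ⟨w, hfin.mem_toFinset.2 (MulAction.mem_orbit_self w)⟩)
      (fun h v hv => ?_) (fun v hv => hM v (Finset.mem_sdiff.1 hv).1)) ?_
    · rw [Finset.mem_sdiff] at hv ⊢
      refine ⟨hs h v hv.1, fun hc => hv.2 ?_⟩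
      rw [ho, hfin.mem_toFinset] at hc ⊢
      obtain ⟨k, hk⟩ := hc
      refine ⟨h⁻¹ * k, ?_⟩
      simp only at hk ⊢
      rw [mul_smul, hk, inv_smul_smul]
    · have hconst : ∀ v ∈ o, f v = f w := fun v hv => by
        obtain ⟨h, rfl⟩ := hfin.mem_toFinset.1 hv
        exact hf h w
      rw [Finset.sum_congr rfl hconst, Finset.sum_const, smul_eq_mul, mul_left_comm,
        ho, ← Set.ncard_eq_toFinset_card _ hfin, ← MulAction.index_stabilizer,
        ← (MulAction.stabilizer H w).index_mul_card]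
      exact Nat.mul_dvd_mul_left _ (hM w hw)

section

variable {G : Type u} [Group G] [Finite G] {p : ℕ} [Fact p.Prime] {Z : Subgroup G} {n J Q L : ℕ}

omit [Fact p.Prime] in
theorem relIndex_card_inf (A C : Subgroup G) :
    A.relIndex C * Nat.card (A ⊓ C : Subgroup G) = Nat.card C := by
  rw [← Subgroup.inf_relIndex_right, Subgroup.relIndex,
    ← Nat.card_congr (Subgroup.subgroupOfEquivOfLe (inf_le_right : A ⊓ C ≤ C)).toEquiv]
  exact Subgroup.index_mul_card _

omit [Fact p.Prime] in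
theorem relIndex_card_of_le {A C : Subgroup G} (h : A ≤ C) :
    A.relIndex C * Nat.card A = Nat.card C := by
  have h1 := relIndex_card_inf A C
  rwa [inf_eq_left.2 h] at h1

/-- The hypotheses of the counting argument. -/
structure Data (G : Type u) [Group G] (p : ℕ) (Z : Subgroup G) (n J Q L : ℕ) : Prop where
  central : Z ≤ Subgroup.center G
  coprime : (Nat.card Z).Coprime p
  J_pos : 0 < J
  Q_pos : 0 < Q
  cent : ∀ x : G, x ∉ Z → ∃ A : Subgroup G, A ≤ Subgroup.centralizer ({x} : Set G) ∧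
    (∀ c ∈ Subgroup.centralizer ({x} : Set G), ∀ a ∈ A, c * a * c⁻¹ ∈ A) ∧
    (∀ a ∈ A, ∀ b ∈ A, Commute a b) ∧ (Nat.card A).Coprime p ∧
    Nat.card (Subgroup.centralizer ({x} : Set G)) ≤ J * Nat.card A
  pow : ∀ B : Subgroup G, (∀ a ∈ B, ∀ b ∈ B, Commute a b) → (Nat.card B).Coprime p →
    ∀ k : ℕ, 0 < k → Nat.card B ≤ k ^ n * Nat.card (powSub B k)
  norm : ∀ T : Subgroup G, (∀ a ∈ T, ∀ b ∈ T, Commute a b) → (Nat.card T).Coprime p →
    Nat.card (Subgroup.normalizer (T : Set G)) ≤ Q * Nat.card (Subgroup.centralizer (T : Set G))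
  scal : ∀ x : G, Nat.card {g : G // x⁻¹ * (g * x * g⁻¹) ∈ Z} ≤
    Q * Nat.card (Subgroup.centralizer ({x} : Set G))
  stab : ∀ B : Subgroup G, ∃ i ≤ L, ∀ g : G,
    (∀ b ∈ B, Commute g (b ^ (J.factorial ^ (i + 1)))) → ∀ b ∈ B, Commute g (b ^ (J.factorial ^ i))

/-- Stable abelian subgroups outside `Z`. -/
def Good (p J : ℕ) (Z U : Subgroup G) : Prop :=
  (∀ a ∈ U, ∀ b ∈ U, Commute a b) ∧ (Nat.card U).Coprime p ∧
    (∀ g : G, (∀ u ∈ U, Commute g (u ^ J.factorial)) → ∀ u ∈ U, Commute g u) ∧ ¬ U ≤ Z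

/-- Elementwise commuting subgroups. -/
def Rel (U U' : Subgroup G) : Prop := ∀ u ∈ U, ∀ u' ∈ U', Commute u u'

/-- The torus of a good subgroup. -/
def torus (p J : ℕ) (Z U : Subgroup G) : Subgroup G :=
  Subgroup.closure ((Z : Set G) ∪ {g | ∃ U', Good p J Z U' ∧ Rel U U' ∧ g ∈ U'})

/-- The tori. -/
def IsTorus (p J : ℕ) (Z T : Subgroup G) : Prop := ∃ U, Good p J Z U ∧ T = torus p J Z U

/-- The elements governed by a torus. -/
def splus (Z T : Subgroup G) (s : ℕ) : Set G :=
  {x | x ∈ Subgroup.normalizer (T : Set G) ∧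
    s * Nat.card Z < Nat.card (T ⊓ Subgroup.centralizer ({x} : Set G) : Subgroup G)}

variable (hd : Data G p Z n J Q L)
include hd

theorem Data.z_comm {z : G} (hz : z ∈ Z) (g : G) : Commute g z := Subgroup.mem_center_iff.1 (hd.central hz) g

theorem pair {y : G} (hy : y ∉ Z) {U U' : Subgroup G} (hU : Good p J Z U) (hU' : Good p J Z U')
    (h : ∀ u ∈ U, Commute u y) (h' : ∀ u ∈ U', Commute u y) : Rel U U' := by
  obtain ⟨A, hAle, hAn, hAc, -, hAJ⟩ := hd.cent y hy
  set C := Subgroup.centralizer ({y} : Set G)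
  haveI : (A.subgroupOf C).Normal :=
    ⟨fun a ha g => Subgroup.mem_subgroupOf.2 (hAn g g.2 a (Subgroup.mem_subgroupOf.1 ha))⟩
  have hidx : (A.subgroupOf C).index ∣ J.factorial := by
    refine Nat.dvd_factorial (Nat.pos_of_ne_zero Subgroup.index_ne_zero_of_finite) ?_
    have h1 := (A.subgroupOf C).index_mul_card
    rw [Nat.card_congr (Subgroup.subgroupOfEquivOfLe hAle).toEquiv] at h1
    refine Nat.le_of_mul_le_mul_right ?_ (Nat.card_pos (α := A))
    rw [h1]; exact hAJ
  have key : ∀ c : G, Commute c y → c ^ J.factorial ∈ A := fun c hc => by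
    obtain ⟨d, hd'⟩ := hidx
    have h1 := (A.subgroupOf C).pow_index_mem ⟨c, Subgroup.mem_centralizer_singleton_iff.2 hc.eq⟩
    rw [hd', pow_mul]
    exact pow_mem (Subgroup.mem_subgroupOf.1 h1) d
  intro u hu u' hu'
  exact hU'.2.2.1 u (fun w hw => (hU.2.2.1 (w ^ J.factorial) (fun v hv =>
    hAc _ (key w (h' w hw)) _ (key v (h v hv))) u hu).symm) u' hu'

theorem rel_trans {U V W : Subgroup G} (hU : Good p J Z U) (hV : Good p J Z V) (hW : Good p J Z W)
    (h1 : Rel U V) (h2 : Rel V W) : Rel U W := by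
  obtain ⟨v, hv, hvZ⟩ := SetLike.not_le_iff_exists.1 hV.2.2.2
  exact pair hd hvZ hU hW (fun u hu => h1 u hu v hv) (fun w hw => (h2 v hv w hw).symm)

omit hd in
theorem le_torus {U U' : Subgroup G} (hU' : Good p J Z U') (h : Rel U U') : U' ≤ torus p J Z U :=
  fun g hg => Subgroup.subset_closure (Or.inr ⟨U', hU', h, hg⟩)

omit hd in
theorem self_le_torus {U : Subgroup G} (hU : Good p J Z U) : U ≤ torus p J Z U :=
  le_torus hU hU.1

omit hd in
theorem z_le_torus {U : Subgroup G} : Z ≤ torus p J Z U :=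
  fun g hg => Subgroup.subset_closure (Or.inl hg)

theorem torus_comm {U : Subgroup G} (hU : Good p J Z U) :
    ∀ a ∈ torus p J Z U, ∀ b ∈ torus p J Z U, Commute a b := by
  refine closure_commute ?_
  rintro a (ha | ⟨V, hV, hUV, ha⟩) b (hb | ⟨W, hW, hUW, hb⟩)
  · exact hd.z_comm hb a
  · exact (hd.z_comm ha b).symm
  · exact hd.z_comm hb a
  · exact rel_trans hd hV hU hW (fun x hx y hy => (hUV y hy x hx).symm) hUW a ha b hb

theorem torus_coprime {U : Subgroup G} (hU : Good p J Z U) : (Nat.card (torus p J Z U)).Coprime p := by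
  refine coprime_of_closure (fun a ha b hb => torus_comm hd hU a (Subgroup.subset_closure ha) b
    (Subgroup.subset_closure hb)) ?_
  rintro a (ha | ⟨V, hV, -, ha⟩)
  · exact hd.coprime.coprime_dvd_left (Z.orderOf_dvd_natCard ha)
  · exact hV.2.1.coprime_dvd_left (V.orderOf_dvd_natCard ha)

theorem torus_congr {U V : Subgroup G} (hU : Good p J Z U) (hV : Good p J Z V) (h : Rel U V) :
    torus p J Z U = torus p J Z V := by
  have aux : ∀ {U V : Subgroup G}, Good p J Z U → Good p J Z V → Rel U V →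
      torus p J Z U ≤ torus p J Z V := fun {U V} hU hV h => by
    refine (Subgroup.closure_le _).2 ?_
    rintro a (ha | ⟨W, hW, hUW, ha⟩)
    · exact z_le_torus ha
    · exact le_torus hW (rel_trans hd hV hU hW (fun x hx y hy => (h y hy x hx).symm) hUW) ha
  exact le_antisymm (aux hU hV h) (aux hV hU fun x hx y hy => (h y hy x hx).symm)

/-- A good subgroup commuting with an element of a torus outside `Z` belongs to the torus. -/
theorem eq_torus {T : Subgroup G} (hT : IsTorus p J Z T) {y : G} (hy : y ∈ T) (hyZ : y ∉ Z)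
    {U : Subgroup G} (hU : Good p J Z U) (h : ∀ u ∈ U, Commute u y) : T = torus p J Z U := by
  obtain ⟨V, hV, rfl⟩ := hT
  exact torus_congr hd hV hU (pair hd hyZ hV hU
    (fun v hv => torus_comm hd hV v (self_le_torus hV hv) y hy) h)

theorem IsTorus.comm {T : Subgroup G} (hT : IsTorus p J Z T) : ∀ a ∈ T, ∀ b ∈ T, Commute a b := by
  obtain ⟨U, hU, rfl⟩ := hT; exact torus_comm hd hU

theorem exists_stable (B : Subgroup G) (hc : ∀ a ∈ B, ∀ b ∈ B, Commute a b)
    (hp : (Nat.card B).Coprime p) :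
    ∃ U ≤ B, (U ≤ Z ∨ Good p J Z U) ∧ Nat.card B ≤ (J.factorial ^ L) ^ n * Nat.card U := by
  obtain ⟨i, hi, hg⟩ := hd.stab B
  have hle : powSub B (J.factorial ^ i) ≤ B := (Subgroup.closure_le _).2 (by
    rintro _ ⟨b, hb, rfl⟩; exact pow_mem hb _)
  refine ⟨_, hle, ?_, (hd.pow B hc hp _ (pow_pos J.factorial_pos i)).trans
    (Nat.mul_le_mul_right _ (Nat.pow_le_pow_left (Nat.pow_le_pow_right J.factorial_pos hi) n))⟩
  refine or_iff_not_imp_left.2 fun hZ => ⟨fun a ha b hb => hc a (hle ha) b (hle hb),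
    hp.coprime_dvd_left (Subgroup.card_dvd_of_le hle), fun g hgu u hu => ?_, hZ⟩
  have h1 : powSub B (J.factorial ^ i) ≤ Subgroup.centralizer ({g} : Set G) := by
    refine (Subgroup.closure_le _).2 ?_
    rintro _ ⟨b, hb, rfl⟩
    refine Subgroup.mem_centralizer_singleton_iff.2 (hg g (fun c hc' => ?_) b hb).symm.eq
    rw [pow_succ, pow_mul]
    exact hgu _ (Subgroup.subset_closure ⟨c, hc', rfl⟩)
  exact (Subgroup.mem_centralizer_singleton_iff.1 (h1 hu)).symm

theorem exists_good (B : Subgroup G) (hc : ∀ a ∈ B, ∀ b ∈ B, Commute a b) (hp : (Nat.card B).Coprime p)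
    (hB : (J.factorial ^ L) ^ n * Nat.card Z < Nat.card B) : ∃ U ≤ B, Good p J Z U := by
  obtain ⟨U, hU, h, hcard⟩ := exists_stable hd B hc hp
  refine ⟨U, hU, h.resolve_left fun hUZ => ?_⟩
  exact absurd (hcard.trans (Nat.mul_le_mul_left _ (Subgroup.card_le_of_le hUZ))) (not_le.2 hB)

theorem Good.map {U : Subgroup G} (hU : Good p J Z U) (g : G) :
    Good p J Z (U.map (MulAut.conj g).toMonoidHom) := by
  refine ⟨?_, ?_, ?_, ?_⟩
  · rintro _ ⟨a, ha, rfl⟩ _ ⟨b, hb, rfl⟩
    exact (hU.1 a ha b hb).map _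
  · rw [Subgroup.card_map_of_injective (MulAut.conj g).injective]; exact hU.2.1
  · rintro c hc _ ⟨u, hu, rfl⟩
    have h1 := hU.2.2.1 ((MulAut.conj g).symm c) (fun v hv => by
      have := (hc _ ⟨v, hv, rfl⟩).map (MulAut.conj g).symm.toMonoidHom
      simpa only [MulEquiv.toMonoidHom_eq_coe, MonoidHom.coe_coe, map_pow, MulEquiv.symm_apply_apply]
        using this) u hu
    have h2 := h1.map (MulAut.conj g).toMonoidHom
    simpa only [MulEquiv.toMonoidHom_eq_coe, MonoidHom.coe_coe, MulEquiv.apply_symm_apply] using h2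
  · intro h
    refine hU.2.2.2 fun u hu => ?_
    have h1 := h ⟨u, hu, rfl⟩
    have h2 : MulAut.conj g u = u := by
      have h3 := (hd.z_comm h1 g).eq
      simp only [MulEquiv.toMonoidHom_eq_coe, MonoidHom.coe_coe, MulAut.conj_apply] at h3 ⊢
      exact mul_left_cancel (h3.trans (by group))
    simpa [h2] using h1

theorem torus_map_le {U : Subgroup G} (g : G) :
    (torus p J Z U).map (MulAut.conj g).toMonoidHom ≤ torus p J Z (U.map (MulAut.conj g).toMonoidHom) := by
  rw [torus, MonoidHom.map_closure, Subgroup.closure_le]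
  rintro _ ⟨a, ha | ⟨V, hV, hUV, ha⟩, rfl⟩
  · refine z_le_torus ?_
    simpa [(hd.z_comm ha g).eq] using ha
  · refine le_torus (Good.map hd hV g) ?_ ⟨a, ha, rfl⟩
    rintro _ ⟨x, hx, rfl⟩ _ ⟨y, hy, rfl⟩
    exact (hUV x hx y hy).map _

theorem torus_map {U : Subgroup G} (g : G) :
    (torus p J Z U).map (MulAut.conj g).toMonoidHom = torus p J Z (U.map (MulAut.conj g).toMonoidHom) := by
  refine le_antisymm (torus_map_le hd g) ?_
  have h := Subgroup.map_mono (f := (MulAut.conj g).toMonoidHom)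
    (torus_map_le hd (U := U.map (MulAut.conj g).toMonoidHom) g⁻¹)
  have hc : ((MulAut.conj g⁻¹).toMonoidHom.comp (MulAut.conj g).toMonoidHom) = MonoidHom.id G := by
    ext x; simp [mul_assoc]
  have hc' : ((MulAut.conj g).toMonoidHom.comp (MulAut.conj g⁻¹).toMonoidHom) = MonoidHom.id G := by
    ext x; simp [mul_assoc]
  rwa [Subgroup.map_map, hc', Subgroup.map_id, Subgroup.map_map, hc, Subgroup.map_id] at h

theorem IsTorus.map {T : Subgroup G} (hT : IsTorus p J Z T) (g : G) :
    IsTorus p J Z (T.map (MulAut.conj g).toMonoidHom) := by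
  obtain ⟨U, hU, rfl⟩ := hT
  exact ⟨_, Good.map hd hU g, torus_map hd g⟩

omit hd in
theorem normalizer_of_map_eq {T : Subgroup G} {g : G} (h : T.map (MulAut.conj g).toMonoidHom = T) :
    g ∈ Subgroup.normalizer (T : Set G) := by
  refine Subgroup.mem_normalizer_iff.2 fun x => ⟨fun hx => h ▸ ⟨x, hx, rfl⟩, fun hx => ?_⟩
  rw [← h] at hx
  obtain ⟨y, hy, e⟩ := hx
  have : y = x := (MulAut.conj g).injective (by simpa using e)
  exact this ▸ hy

theorem card_normalizer_le {T : Subgroup G} (hT : IsTorus p J Z T) :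
    Nat.card (Subgroup.normalizer (T : Set G)) ≤ Q * J * (J.factorial ^ L) ^ n * Nat.card T := by
  obtain ⟨U₀, hU₀, rfl⟩ := hT
  refine (hd.norm _ (torus_comm hd hU₀) (torus_coprime hd hU₀)).trans ?_
  rw [mul_assoc, mul_assoc]
  refine Nat.mul_le_mul_left _ ?_
  set T := torus p J Z U₀
  obtain ⟨y, hy, hyZ⟩ := SetLike.not_le_iff_exists.1 hU₀.2.2.2
  have hyT : y ∈ T := self_le_torus hU₀ hy
  obtain ⟨A, hAle, -, hAc, hAp, hAJ⟩ := hd.cent y hyZ
  set C := Subgroup.centralizer (T : Set G)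
  have hCle : C ≤ Subgroup.centralizer ({y} : Set G) := Subgroup.centralizer_le (by simpa using hyT)
  have h1 : Nat.card C ≤ J * Nat.card (A ⊓ C : Subgroup G) := by
    rw [← relIndex_card_inf A C]
    refine Nat.mul_le_mul_right _ ((Subgroup.relIndex_le_of_le_right hCle Subgroup.index_ne_zero_of_finite).trans ?_)
    refine Nat.le_of_mul_le_mul_right ?_ (Nat.card_pos (α := A))
    exact le_trans (le_of_eq (relIndex_card_of_le hAle)) hAJ
  obtain ⟨U, hUle, h, hcard⟩ := exists_stable hd (A ⊓ C) (fun a ha b hb => hAc a ha.1 b hb.1)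
    (hAp.coprime_dvd_left (Subgroup.card_dvd_of_le inf_le_left))
  refine h1.trans (Nat.mul_le_mul_left _ (hcard.trans (Nat.mul_le_mul_left _ (Subgroup.card_le_of_le ?_))))
  rcases h with h | h
  · exact h.trans z_le_torus
  · refine (self_le_torus h).trans (eq_torus hd ⟨U₀, hU₀, rfl⟩ hyT hyZ h fun u hu => ?_).ge
    exact (Subgroup.mem_centralizer_iff.1 (hUle hu).2 y hyT).symm

theorem exists_torus_of_big_centralizer {x : G} (hx : x ∉ Z)
    (h : J * (J.factorial ^ L) ^ n * Nat.card Z < Nat.card (Subgroup.centralizer ({x} : Set G))) :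
    ∃ T, IsTorus p J Z T ∧ Subgroup.centralizer ({x} : Set G) ≤ Subgroup.normalizer (T : Set G) := by
  obtain ⟨A, hAle, hAn, hAc, hAp, hAJ⟩ := hd.cent x hx
  obtain ⟨U, hUA, hU⟩ := exists_good hd A hAc hAp (by
    refine Nat.lt_of_mul_lt_mul_left (a := J) ?_
    calc J * ((J.factorial ^ L) ^ n * Nat.card Z) = J * (J.factorial ^ L) ^ n * Nat.card Z := by ring
      _ < _ := h
      _ ≤ _ := hAJ)
  refine ⟨_, ⟨U, hU, rfl⟩, fun c hc => normalizer_of_map_eq ?_⟩
  rw [torus_map hd]
  refine (torus_congr hd hU (Good.map hd hU c) ?_).symm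
  rintro u hu _ ⟨v, hv, rfl⟩
  exact hAc u (hUA hu) _ (hAn c hc v (hUA hv))

theorem splus_disjoint {T T' : Subgroup G} (hT : IsTorus p J Z T) (hT' : IsTorus p J Z T') {x : G}
    (hx : x ∉ Z) {s : ℕ} (hs : (J.factorial ^ L) ^ n ≤ s) (h : x ∈ splus Z T s) (h' : x ∈ splus Z T' s) :
    T = T' := by
  have key : ∀ {T : Subgroup G}, IsTorus p J Z T → x ∈ splus Z T s →
      ∃ U, Good p J Z U ∧ (∀ u ∈ U, Commute u x) ∧ T = torus p J Z U := fun {T} hT h => by
    obtain ⟨U₀, hU₀, rfl⟩ := hT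
    obtain ⟨U, hUle, hU⟩ := exists_good hd
      (torus p J Z U₀ ⊓ Subgroup.centralizer ({x} : Set G))
      (fun a ha b hb => torus_comm hd hU₀ a ha.1 b hb.1)
      ((torus_coprime hd hU₀).coprime_dvd_left (Subgroup.card_dvd_of_le inf_le_left))
      (lt_of_le_of_lt (Nat.mul_le_mul_right _ hs) h.2)
    obtain ⟨y, hy, hyZ⟩ := SetLike.not_le_iff_exists.1 hU.2.2.2
    exact ⟨U, hU, fun u hu => Subgroup.mem_centralizer_singleton_iff.1 (hUle hu).2,
      eq_torus hd ⟨U₀, hU₀, rfl⟩ (hUle hy).1 hyZ hU fun u hu => hU.1 u hu y hy⟩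
  obtain ⟨U, hU, hUx, e⟩ := key hT h
  obtain ⟨U', hU', hUx', e'⟩ := key hT' h'
  rw [e, e']
  exact torus_congr hd hU hU' (pair hd hx hU hU' hUx hUx')

theorem card_splus_dvd {T : Subgroup G} (hT : IsTorus p J Z T) (s : ℕ) :
    Nat.card T ∣ (splus Z T s).ncard := by
  have hinv : ∀ x ∈ splus Z T s, ∀ t ∈ T, x * t ∈ splus Z T s := fun x hx t ht => by
    refine ⟨mul_mem hx.1 (Subgroup.le_normalizer ht), ?_⟩
    refine lt_of_lt_of_le hx.2 (Subgroup.card_le_of_le fun a ha => ⟨ha.1, ?_⟩)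
    refine Subgroup.mem_centralizer_singleton_iff.2 ?_
    exact (show Commute a (x * t) from (show Commute a x from
      Subgroup.mem_centralizer_singleton_iff.1 ha.2).mul_right (hT.comm hd a ha.1 t ht)).eq
  have e : QuotientGroup.mk (s := T) ⁻¹' (QuotientGroup.mk (s := T) '' splus Z T s) = splus Z T s := by
    refine Set.Subset.antisymm ?_ (Set.subset_preimage_image _ _)
    rintro x ⟨y, hy, hyx⟩
    rw [QuotientGroup.eq] at hyx
    simpa using hinv y hy _ hyx
  rw [← Nat.card_coe_set_eq, ← e, Nat.card_congr (QuotientGroup.preimageMkEquivSubgroupProdSet T _),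
    Nat.card_prod]
  exact dvd_mul_right _ _

omit hd in
theorem splus_map {T : Subgroup G} (g : G) (s : ℕ) :
    splus Z (T.map (MulAut.conj g).toMonoidHom) s = MulAut.conj g '' splus Z T s := by
  set φ := MulAut.conj g
  have e : ∀ x, (T ⊓ Subgroup.centralizer ({x} : Set G)).map φ.toMonoidHom =
      T.map φ.toMonoidHom ⊓ Subgroup.centralizer ({φ x} : Set G) := fun x => by
    rw [Subgroup.map_inf _ _ _ φ.injective]
    congr 1
    ext a
    simp only [Subgroup.mem_map_equiv, Subgroup.mem_centralizer_singleton_iff]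
    constructor
    · intro h; simpa using congrArg φ h
    · intro h; simpa using congrArg φ.symm h
  ext a
  obtain ⟨x, rfl⟩ := φ.surjective a
  rw [φ.injective.mem_set_image]
  show (_ ∧ _) ↔ (_ ∧ _)
  rw [← e, Subgroup.card_map_of_injective φ.injective]
  refine and_congr_left fun _ => ?_
  rw [← Subgroup.map_equiv_normalizer_eq]
  exact Subgroup.mem_map_iff_mem φ.injective

/-- Jordan's counting argument. -/
theorem core : ∃ A : Subgroup G, A.Normal ∧ (∀ a ∈ A, ∀ b ∈ A, Commute a b) ∧ (Nat.card A).Coprime p ∧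
    A.index ≤ bound n J Q L := by
  classical
  haveI := Fintype.ofFinite G
  set E := (J.factorial ^ L) ^ n with hE
  set R := Q * J * E with hR
  have hE0 : 0 < E := pow_pos (pow_pos J.factorial_pos _) _
  have hR0 : 0 < R := Nat.mul_pos (Nat.mul_pos hd.Q_pos hd.J_pos) hE0
  have hZpos : 0 < Nat.card Z := Nat.card_pos
  have hbound : bound n J Q L = kap (Q * R) E (2 * R + 1) + R := rfl
  set κ := kap (Q * R) E with hκ
  have hκmono : StrictMono κ := kap_strictMono _ _
  have hκ2 : ∀ j, E + 2 ≤ κ j := fun j => hκmono.monotone (Nat.zero_le j)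
  let Sf : Subgroup G → Finset G := fun T => (splus Z T E).toFinset
  let Zf : Finset G := (Z : Set G).toFinset
  have hZf : Zf.card = Nat.card Z := by rw [Set.toFinset_card, Nat.card_eq_fintype_card]; rfl
  let 𝒯 : Finset (Subgroup G) := univ.filter fun T => IsTorus p J Z T ∧ κ 0 * Nat.card Z < Nat.card T
  have hTsub : ∀ T ∈ 𝒯, (T : Set G).toFinset ⊆ Sf T := fun T hT x hx => by
    rw [Set.mem_toFinset] at hx
    refine Set.mem_toFinset.2 ⟨Subgroup.le_normalizer hx, ?_⟩
    obtain ⟨hT1, hT2⟩ := (mem_filter.1 hT).2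
    rw [inf_eq_left.2 fun t ht => Subgroup.mem_centralizer_singleton_iff.2 (hT1.comm hd t ht x hx).eq]
    exact lt_of_le_of_lt (Nat.mul_le_mul_right _ (le_trans (by omega) (hκ2 0))) hT2
  have hZsub : ∀ T ∈ 𝒯, Zf ⊆ Sf T := fun T hT x hx => by
    obtain ⟨U, hU, rfl⟩ := (mem_filter.1 hT).2.1
    exact hTsub _ hT (Set.mem_toFinset.2 (z_le_torus (Set.mem_toFinset.1 hx)))
  have hTcard : ∀ T ∈ 𝒯, Nat.card T ≤ (Sf T).card := fun T hT => by
    refine le_trans (le_of_eq ?_) (card_le_card (hTsub T hT))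
    rw [Set.toFinset_card, Nat.card_eq_fintype_card]; rfl
  have hdisj : (𝒯 : Set (Subgroup G)).PairwiseDisjoint fun T => Sf T \ Zf := by
    intro T hT T' hT' hne
    rw [Function.onFun, disjoint_left]
    intro x hx hx'
    rw [mem_sdiff] at hx hx'
    exact hne (splus_disjoint hd (mem_filter.1 hT).2.1 (mem_filter.1 hT').2.1
      (fun h => hx.2 (Set.mem_toFinset.2 h)) le_rfl (Set.mem_toFinset.1 hx.1) (Set.mem_toFinset.1 hx'.1))
  have hsum_le : ∀ 𝓛 ⊆ 𝒯, ∑ T ∈ 𝓛, (Sf T \ Zf).card ≤ Nat.card G := fun 𝓛 h𝓛 => by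
    rw [← card_biUnion (hdisj.subset (coe_subset.2 h𝓛)), Nat.card_eq_fintype_card]
    exact card_le_univ _
  have hNle : ∀ T ∈ 𝒯, Nat.card (Subgroup.normalizer (T : Set G)) ≤ R * Nat.card T :=
    fun T hT => card_normalizer_le hd (mem_filter.1 hT).2.1
  letI act : MulAction G (Subgroup G) := MulAction.compHom (Subgroup G) (MulAut.conj (G := G))
  have hsmul : ∀ (g : G) (T : Subgroup G), g • T = T.map (MulAut.conj g).toMonoidHom := fun g T => rfl
  have hstab : ∀ T : Subgroup G, MulAction.stabilizer G T = Subgroup.normalizer (T : Set G) := fun T => by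
    ext g
    rw [MulAction.mem_stabilizer_iff, hsmul]
    refine ⟨normalizer_of_map_eq, fun hg => le_antisymm ?_ fun x hx => ?_⟩
    · rintro _ ⟨y, hy, rfl⟩
      exact (Subgroup.mem_normalizer_iff.1 hg y).1 hy
    · exact ⟨g⁻¹ * x * g, (Subgroup.mem_normalizer_iff.1 hg _).2 (by simpa [mul_assoc] using hx),
        by simp [mul_assoc]⟩
  have hmap_mem : ∀ T ∈ 𝒯, ∀ g : G, g • T ∈ 𝒯 ∧ Nat.card ↥(g • T) = Nat.card T ∧
      (Sf (g • T)).card = (Sf T).card := fun T hT g => by
    have hc : Nat.card ↥(g • T) = Nat.card T := Subgroup.card_map_of_injective (MulAut.conj g).injective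
    refine ⟨mem_filter.2 ⟨mem_univ _, (mem_filter.1 hT).2.1.map hd g, by rw [hc]; exact (mem_filter.1 hT).2.2⟩,
      hc, ?_⟩
    simp only [Sf, ← Set.ncard_eq_toFinset_card', hsmul, splus_map]
    exact Set.ncard_image_of_injective _ (MulAut.conj g).injective
  -- a gap in the orders of the tori
  obtain ⟨j, hj, hgap⟩ : ∃ j ≤ 2 * R, ∀ T ∈ 𝒯, κ j * Nat.card Z < Nat.card T →
      κ (j + 1) * Nat.card Z < Nat.card T := by
    by_contra hcon
    push_neg at hcon
    let F : ℕ → Finset (Subgroup G) := fun j => 𝒯.filter fun T =>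
      κ j * Nat.card Z < Nat.card T ∧ Nat.card T ≤ κ (j + 1) * Nat.card Z
    have hFdisj : ((range (2 * R + 1) : Finset ℕ) : Set ℕ).PairwiseDisjoint F := by
      intro a _ b _ hab
      rw [Function.onFun, disjoint_left]
      intro T hTa hTb
      simp only [F, mem_filter] at hTa hTb
      rcases Nat.lt_or_lt_of_ne hab with h | h
      · exact absurd (lt_of_lt_of_le hTb.2.1 (hTa.2.2.trans (Nat.mul_le_mul_right _ (hκmono.monotone h))))
          (lt_irrefl _)
      · exact absurd (lt_of_lt_of_le hTa.2.1 (hTb.2.2.trans (Nat.mul_le_mul_right _ (hκmono.monotone h))))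
          (lt_irrefl _)
    have hF : ∀ a ∈ range (2 * R + 1), Nat.card G ≤ 2 * R * ∑ T ∈ F a, (Sf T \ Zf).card := by
      intro a ha
      obtain ⟨T₀, hT₀, h1, h2⟩ := hcon a (Nat.lt_succ_iff.1 (mem_range.1 ha))
      have hfin : (MulAction.orbit G T₀).Finite := Set.toFinite _
      have hsub : hfin.toFinset ⊆ F a := fun T hT => by
        obtain ⟨g, rfl⟩ := hfin.mem_toFinset.1 hT
        obtain ⟨m1, m2, -⟩ := hmap_mem T₀ hT₀ g
        exact mem_filter.2 ⟨m1, m2 ▸ ⟨h1, h2⟩⟩
      refine le_trans ?_ (Nat.mul_le_mul_left _ (sum_le_sum_of_subset hsub))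
      have hconst : ∀ T ∈ hfin.toFinset, (Sf T \ Zf).card = (Sf T₀).card - Nat.card Z := fun T hT => by
        obtain ⟨g, rfl⟩ := hfin.mem_toFinset.1 hT
        obtain ⟨m1, -, m3⟩ := hmap_mem T₀ hT₀ g
        rw [card_sdiff_of_subset (hZsub _ m1), hZf, m3]
      rw [sum_congr rfl hconst, sum_const, smul_eq_mul, ← Set.ncard_eq_toFinset_card _ hfin,
        ← MulAction.index_stabilizer, hstab]
      have h3 : Nat.card T₀ ≤ 2 * ((Sf T₀).card - Nat.card Z) := by
        have h4 : 2 * Nat.card Z ≤ Nat.card T₀ :=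
          le_of_lt (lt_of_le_of_lt (Nat.mul_le_mul_right _ (le_trans (by omega) (hκ2 a))) h1)
        have h5 := hTcard T₀ hT₀
        omega
      calc Nat.card G = (Subgroup.normalizer (T₀ : Set G)).index *
            Nat.card (Subgroup.normalizer (T₀ : Set G)) := (Subgroup.index_mul_card _).symm
        _ ≤ (Subgroup.normalizer (T₀ : Set G)).index * (R * (2 * ((Sf T₀).card - Nat.card Z))) :=
            Nat.mul_le_mul_left _ ((hNle T₀ hT₀).trans (Nat.mul_le_mul_left _ h3))
        _ = _ := by ring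
    have h1 := sum_le_sum hF
    rw [sum_const, card_range, smul_eq_mul, ← mul_sum, ← sum_biUnion hFdisj] at h1
    have h2 := hsum_le ((range (2 * R + 1)).biUnion F) fun T hT => by
      obtain ⟨a, -, ha⟩ := mem_biUnion.1 hT
      exact (mem_filter.1 ha).1
    have h3 := h1.trans (Nat.mul_le_mul_left _ h2)
    have hG : 0 < Nat.card G := Nat.card_pos
    nlinarith
  set K := κ j with hK
  set D := (Q * R * K).factorial with hD
  have hDnext : D + 2 ≤ κ (j + 1) := by simp only [hκ, kap, hD, hK]; omega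
  let 𝓛 := 𝒯.filter fun T : Subgroup G => K * Nat.card Z < Nat.card T
  have h𝓛 : 𝓛 ⊆ 𝒯 := filter_subset _ _
  let Y : Finset G := univ.filter fun x => x ∉ Z ∧ ∀ T ∈ 𝓛, x ∉ Sf T
  -- centralizers of the small elements
  have hY : ∀ x ∈ Y, Nat.card (Subgroup.centralizer ({x} : Set G)) ≤ R * K * Nat.card Z := by
    intro x hx
    obtain ⟨hxZ, hxL⟩ := (mem_filter.1 hx).2
    by_contra hbig
    push_neg at hbig
    obtain ⟨T, hT, hCN⟩ := exists_torus_of_big_centralizer hd hxZ (lt_of_le_of_lt (by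
      refine Nat.mul_le_mul_right _ ?_
      calc J * (J.factorial ^ L) ^ n = 1 * (J * E) * 1 := by rw [hE]; ring
        _ ≤ Q * (J * E) * K := Nat.mul_le_mul (Nat.mul_le_mul_right _ hd.Q_pos)
            (le_trans (by omega) (hκ2 j))
        _ = R * K := by rw [hR]; ring) hbig)
    set C := Subgroup.centralizer ({x} : Set G)
    have hlt : K * Nat.card Z < Nat.card (T ⊓ C : Subgroup G) := by
      refine Nat.lt_of_mul_lt_mul_left (a := R) ?_
      calc R * (K * Nat.card Z) = R * K * Nat.card Z := by ring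
        _ < Nat.card C := hbig
        _ = T.relIndex C * Nat.card (T ⊓ C : Subgroup G) := (relIndex_card_inf T C).symm
        _ ≤ R * _ := Nat.mul_le_mul_right _ ((Subgroup.relIndex_le_of_le_right hCN
            Subgroup.index_ne_zero_of_finite).trans (by
              refine Nat.le_of_mul_le_mul_right ?_ (Nat.card_pos (α := T))
              exact le_trans (le_of_eq (relIndex_card_of_le Subgroup.le_normalizer)) (card_normalizer_le hd hT)))
    have hTbig : K * Nat.card Z < Nat.card T :=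
      lt_of_lt_of_le hlt (Subgroup.card_le_of_le inf_le_left)
    refine hxL T (mem_filter.2 ⟨mem_filter.2 ⟨mem_univ _, hT, lt_of_le_of_lt
      (Nat.mul_le_mul_right _ (hκmono.monotone (Nat.zero_le j))) hTbig⟩, hTbig⟩) ?_
    exact Set.mem_toFinset.2 ⟨hCN (Subgroup.mem_centralizer_singleton_iff.2 rfl),
      lt_of_le_of_lt (Nat.mul_le_mul_right _ (le_trans (by omega) (hκ2 j))) hlt⟩
  -- their number
  have hYdvd : Nat.card G ∣ D * Y.card := by
    letI act2 : MulAction (G × Z) G :=
      { smul := fun q x => q.1 * x * q.1⁻¹ * q.2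
        one_smul := fun x => by show (1 : G) * x * 1⁻¹ * ((1 : Z) : G) = x; simp
        mul_smul := fun q r x => by
          show q.1 * r.1 * x * (q.1 * r.1)⁻¹ * ((q.2 * r.2 : Z) : G) =
            q.1 * (r.1 * x * r.1⁻¹ * r.2) * q.1⁻¹ * q.2
          have h1 := (hd.z_comm r.2.2 q.1⁻¹).eq
          have h2 := (hd.z_comm r.2.2 (q.2 : G)).eq
          simp only [Subgroup.coe_mul, mul_inv_rev, mul_assoc]
          rw [h2, ← mul_assoc (r.2 : G) q.1⁻¹, ← h1, mul_assoc] }
    have hsm : ∀ (q : G × Z) (x : G), q • x = q.1 * x * q.1⁻¹ * q.2 := fun _ _ => rfl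
    have h := sum_dvd_of_invariant (H := G × Z) (fun _ : G => 1) (D * Nat.card Z) (fun _ _ => rfl) Y ?_ ?_
    · rw [sum_const, smul_eq_mul, mul_one, Nat.card_prod, mul_right_comm] at h
      exact (Nat.mul_dvd_mul_iff_right hZpos).1 h
    · intro q x hx
      obtain ⟨hxZ, hxL⟩ := (mem_filter.1 hx).2
      refine mem_filter.2 ⟨mem_univ _, fun h => hxZ ?_, fun T hT hmem => ?_⟩
      · have h1 := Z.mul_mem h (inv_mem q.2.2)
        rw [hsm, mul_inv_cancel_right] at h1
        have h2 := (hd.z_comm h1 q.1).eq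
        have h3 : q.1 * x * q.1⁻¹ = x := mul_left_cancel (a := q.1) (h2.trans (by group))
        rwa [h3] at h1
      · refine hxL (q.1⁻¹ • T) ?_ ?_
        · obtain ⟨m1, m2, -⟩ := hmap_mem T (h𝓛 hT) q.1⁻¹
          exact mem_filter.2 ⟨m1, m2 ▸ (mem_filter.1 hT).2⟩
        · refine Set.mem_toFinset.2 ?_
          rw [hsmul, splus_map]
          refine ⟨q.1 * x * q.1⁻¹, ?_, by simp [mul_assoc]⟩
          have hmem' := Set.mem_toFinset.1 hmem
          rw [hsm] at hmem'
          obtain ⟨U, hU, e⟩ := (mem_filter.1 (h𝓛 hT)).2.1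
          have hTN : (q.2 : G) ∈ T := e ▸ z_le_torus q.2.2
          refine ⟨?_, lt_of_lt_of_le hmem'.2 (Subgroup.card_le_of_le ?_)⟩
          · have := mul_mem hmem'.1 (inv_mem (Subgroup.le_normalizer hTN))
            rwa [mul_inv_cancel_right] at this
          · refine inf_le_inf_left _ fun a ha => ?_
            rw [Subgroup.mem_centralizer_singleton_iff] at ha ⊢
            have := (show Commute a (q.1 * x * q.1⁻¹ * q.2) from ha).mul_right
              (hd.z_comm (inv_mem q.2.2) a)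
            rw [mul_inv_cancel_right] at this
            exact this.eq
    · intro x hx
      rw [mul_one]
      let Ct : Subgroup G :=
        { carrier := {g | x⁻¹ * (g * x * g⁻¹) ∈ Z}
          one_mem' := by simp
          mul_mem' := fun {g k} hg hk => by
            simp only [Set.mem_setOf_eq] at hg hk ⊢
            have h1 := (hd.z_comm hk g).eq
            have e : x⁻¹ * ((g * k) * x * (g * k)⁻¹) =
                (x⁻¹ * (g * x * g⁻¹)) * (x⁻¹ * (k * x * k⁻¹)) := by
              have : g * (x⁻¹ * (k * x * k⁻¹)) * g⁻¹ = x⁻¹ * (k * x * k⁻¹) := by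
                rw [h1, mul_inv_cancel_right]
              conv_rhs => rw [← this]
              group
            show x⁻¹ * ((g * k) * x * (g * k)⁻¹) ∈ Z
            rw [e]
            exact mul_mem hg hk
          inv_mem' := fun {g} hg => by
            simp only [Set.mem_setOf_eq] at hg ⊢
            have h1 := (hd.z_comm hg g⁻¹).eq
            have e : (x⁻¹ * (g * x * g⁻¹))⁻¹ = g⁻¹ * (x⁻¹ * (g * x * g⁻¹))⁻¹ * g := by
              have h2 := (hd.z_comm (inv_mem hg) g⁻¹).eq
              rw [h2, inv_mul_cancel_right]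
            have h3 := inv_mem hg
            rw [e] at h3
            show x⁻¹ * (g⁻¹ * x * g⁻¹⁻¹) ∈ Z
            have e2 : x⁻¹ * (g⁻¹ * x * g⁻¹⁻¹) = g⁻¹ * (x⁻¹ * (g * x * g⁻¹))⁻¹ * g := by group
            rw [e2]
            exact h3 }
      have hcard : Nat.card (MulAction.stabilizer (G × Z) x) = Nat.card Ct := by
        refine Nat.card_congr
          { toFun := fun q => ⟨q.1.1, ?_⟩
            invFun := fun g => ⟨(g.1, ⟨(x⁻¹ * (g.1 * x * g.1⁻¹))⁻¹, inv_mem g.2⟩), ?_⟩
            left_inv := fun q => ?_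
            right_inv := fun g => rfl }
        · have h := q.2
          rw [MulAction.mem_stabilizer_iff, hsm] at h
          show x⁻¹ * (q.1.1 * x * q.1.1⁻¹) ∈ Z
          rw [eq_mul_inv_of_mul_eq h, inv_mul_cancel_left]
          exact inv_mem q.1.2.2
        · rw [MulAction.mem_stabilizer_iff, hsm]
          group
        · have h := q.2
          rw [MulAction.mem_stabilizer_iff, hsm] at h
          refine Subtype.ext (Prod.ext rfl (Subtype.ext ?_))
          show (x⁻¹ * (q.1.1 * x * q.1.1⁻¹))⁻¹ = q.1.2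
          rw [eq_mul_inv_of_mul_eq h]
          group
      have hZle : Z ≤ Ct := fun z hz => by
        show x⁻¹ * (z * x * z⁻¹) ∈ Z
        rw [← (hd.z_comm hz x).eq]
        simp
      have hle : Nat.card Ct ≤ Q * R * K * Nat.card Z := by
        refine (hd.scal x).trans ((Nat.mul_le_mul_left _ (hY x hx)).trans (le_of_eq ?_))
        ring
      rw [hcard, ← relIndex_card_of_le hZle]
      refine Nat.mul_dvd_mul_right (Nat.dvd_factorial (Nat.pos_of_ne_zero Subgroup.index_ne_zero_of_finite) ?_) _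
      refine Nat.le_of_mul_le_mul_right ?_ hZpos
      exact le_trans (le_of_eq (relIndex_card_of_le hZle)) hle
  have hTdvd : Nat.card G ∣ D * ∑ T ∈ 𝒯.filter (fun T : Subgroup G => K * Nat.card Z < Nat.card T), (Sf T).card := by
    refine sum_dvd_of_invariant _ D (fun g T => ?_) _ (fun g T hT => ?_) (fun T hT => ?_)
    · simp only [Sf, ← Set.ncard_eq_toFinset_card', hsmul, splus_map]
      exact Set.ncard_image_of_injective _ (MulAut.conj g).injective
    · obtain ⟨m1, m2, -⟩ := hmap_mem T (h𝓛 hT) g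
      exact mem_filter.2 ⟨m1, m2 ▸ (mem_filter.1 hT).2⟩
    · rw [hstab]
      set N := Subgroup.normalizer (T : Set G)
      have h1 : T.relIndex N * Nat.card T = Nat.card N := relIndex_card_of_le Subgroup.le_normalizer
      rw [← h1]
      refine Nat.mul_dvd_mul (Nat.dvd_factorial (Nat.pos_of_ne_zero Subgroup.index_ne_zero_of_finite) ?_) ?_
      · refine le_trans (Nat.le_of_mul_le_mul_right ?_ (Nat.card_pos (α := T))) (le_trans (b := R)
          le_rfl ?_)
        · rw [h1]; exact hNle T (h𝓛 hT)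
        · calc R = 1 * R * 1 := by ring
            _ ≤ Q * R * K := Nat.mul_le_mul (Nat.mul_le_mul_right _ hd.Q_pos)
                (le_trans (by omega) (hκ2 j))
      · simp only [Sf, ← Set.ncard_eq_toFinset_card']
        exact card_splus_dvd hd (mem_filter.1 (h𝓛 hT)).2.1 E
  -- the class equation
  have hcount : Nat.card G + 𝓛.card * Nat.card Z = Y.card + (∑ T ∈ 𝓛, (Sf T).card) + Nat.card Z := by
    have hun : (univ : Finset G) = Y ∪ Zf ∪ 𝓛.biUnion fun T => Sf T \ Zf := by
      refine Finset.ext fun x => ⟨fun _ => ?_, fun _ => mem_univ x⟩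
      by_cases hxZ : x ∈ Z
      · exact mem_union_left _ (mem_union_right _ (Set.mem_toFinset.2 hxZ))
      by_cases hxL : ∀ T ∈ 𝓛, x ∉ Sf T
      · exact mem_union_left _ (mem_union_left _ (mem_filter.2 ⟨mem_univ _, hxZ, hxL⟩))
      push_neg at hxL
      obtain ⟨T, hT, hx⟩ := hxL
      exact mem_union_right _ (mem_biUnion.2 ⟨T, hT, mem_sdiff.2 ⟨hx, fun h => hxZ (Set.mem_toFinset.1 h)⟩⟩)
    have hd1 : Disjoint Y Zf := disjoint_left.2 fun x hx hz => (mem_filter.1 hx).2.1 (Set.mem_toFinset.1 hz)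
    have hd2 : Disjoint (Y ∪ Zf) (𝓛.biUnion fun T => Sf T \ Zf) := disjoint_left.2 fun x hx hb => by
      obtain ⟨T, hT, hxT⟩ := mem_biUnion.1 hb
      rw [mem_sdiff] at hxT
      rcases mem_union.1 hx with h | h
      · exact (mem_filter.1 h).2.2 T hT hxT.1
      · exact hxT.2 h
    have h1 : Nat.card G = Y.card + Zf.card + ∑ T ∈ 𝓛, (Sf T \ Zf).card := by
      rw [Nat.card_eq_fintype_card, ← card_univ, hun, card_union_of_disjoint hd2,
        card_union_of_disjoint hd1, card_biUnion (hdisj.subset (coe_subset.2 h𝓛))]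
    have h2 : (∑ T ∈ 𝓛, (Sf T \ Zf).card) + 𝓛.card * Nat.card Z = ∑ T ∈ 𝓛, (Sf T).card := by
      rw [← smul_eq_mul, ← sum_const, ← sum_add_distrib]
      exact sum_congr rfl fun T hT => by rw [← hZf, card_sdiff_add_card_eq_card (hZsub T (h𝓛 hT))]
    omega
  have hdvd : Nat.card G ∣ D * (Y.card + ∑ T ∈ 𝓛, (Sf T).card) := by
    rw [mul_add]; exact dvd_add hYdvd hTdvd
  have hkey : (Nat.card G : ℤ) ∣ (D : ℤ) * Nat.card Z * ((𝓛.card : ℤ) - 1) := by
    have e : (D : ℤ) * Nat.card Z * ((𝓛.card : ℤ) - 1) =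
        ((D * (Y.card + ∑ T ∈ 𝓛, (Sf T).card) : ℕ) : ℤ) - (D : ℤ) * Nat.card G := by
      have h := congrArg (fun k : ℕ => (k : ℤ)) hcount
      push_cast at h ⊢
      linear_combination (D : ℤ) * h
    rw [e]
    exact dvd_sub (Int.natCast_dvd_natCast.2 hdvd) (dvd_mul_left _ _)
  have hκle : D ≤ κ (2 * R + 1) := le_trans (by omega) (hκmono.monotone (show j + 1 ≤ 2 * R + 1 by omega))
  rw [hbound]
  rcases Nat.lt_trichotomy 𝓛.card 1 with h0 | h1 | h2
  · refine ⟨Z, ⟨fun a ha g => ?_⟩, fun a _ b hb => hd.z_comm hb a, hd.coprime, ?_⟩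
    · rwa [(hd.z_comm ha g).eq, mul_inv_cancel_right]
    · rw [Nat.lt_one_iff.1 h0, Nat.cast_zero, zero_sub, mul_neg, mul_one, dvd_neg] at hkey
      have h3 : Nat.card G ∣ D * Nat.card Z := Int.natCast_dvd_natCast.1 (by push_cast; exact hkey)
      have h4 := Nat.le_of_dvd (Nat.mul_pos (Nat.factorial_pos _) hZpos) h3
      rw [← Subgroup.index_mul_card Z] at h4
      exact le_trans (Nat.le_of_mul_le_mul_right h4 hZpos) (le_trans hκle (Nat.le_add_right _ _))
  · obtain ⟨T, hT⟩ := card_eq_one.1 h1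
    have hTm : T ∈ 𝓛 := by rw [hT]; exact mem_singleton_self T
    have hN : Subgroup.normalizer (T : Set G) = ⊤ := by
      refine eq_top_iff.2 fun g _ => normalizer_of_map_eq ?_
      obtain ⟨m1, m2, -⟩ := hmap_mem T (h𝓛 hTm) g
      have : g • T ∈ 𝓛 := mem_filter.2 ⟨m1, m2 ▸ (mem_filter.1 hTm).2⟩
      rw [hT, mem_singleton, hsmul] at this
      exact this
    obtain ⟨U, hU, rfl⟩ := (mem_filter.1 (h𝓛 hTm)).2.1
    refine ⟨_, Subgroup.normalizer_eq_top_iff.1 hN, torus_comm hd hU, torus_coprime hd hU, ?_⟩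
    have h3 := hNle _ (h𝓛 hTm)
    rw [hN, Subgroup.card_top, ← Subgroup.index_mul_card (torus p J Z U)] at h3
    exact le_trans (Nat.le_of_mul_le_mul_right h3 Nat.card_pos) (Nat.le_add_left _ _)
  · exfalso
    have hpos : (0 : ℤ) < (D : ℤ) * Nat.card Z * ((𝓛.card : ℤ) - 1) := by
      refine mul_pos (mul_pos ?_ (by exact_mod_cast hZpos)) (by omega)
      exact_mod_cast Nat.factorial_pos _
    have h4 := Int.le_of_dvd hpos hkey
    have h5 : (D + 1) * Nat.card Z * 𝓛.card ≤ Nat.card G := by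
      refine le_trans ?_ (hsum_le 𝓛 h𝓛)
      rw [mul_comm, ← smul_eq_mul]
      refine card_nsmul_le_sum _ _ _ fun T hT => ?_
      have h6 := hgap T (h𝓛 hT) (mem_filter.1 hT).2
      have h7 := hTcard T (h𝓛 hT)
      have h8 : (D + 2) * Nat.card Z ≤ κ (j + 1) * Nat.card Z := Nat.mul_le_mul_right _ hDnext
      rw [card_sdiff_of_subset (hZsub T (h𝓛 hT)), hZf]
      have h9 : (D + 2) * Nat.card Z = (D + 1) * Nat.card Z + Nat.card Z := by ring
      omega
    have h5' : ((D : ℤ) + 1) * Nat.card Z * 𝓛.card ≤ Nat.card G := by exact_mod_cast h5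
    have : (0 : ℤ) < Nat.card Z := by exact_mod_cast hZpos
    nlinarith

end

end Cfsg.Lib.Jordan.Modular
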