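import Mathlib
import Cfsg.Agent.Jordan.ModularTori

/-!
# Finite linear groups in characteristic `p`

A finite linear group of degree `n` in characteristic `p` whose order is not divisible by `p ^ (m + 1)`
has an abelian normal subgroup of index bounded in terms of `n` and `m` (Brauer and Feit; the proof here is
Jordan's counting argument).
-/

set_option autoImplicit false
set_option linter.unusedSectionVars false
set_option linter.style.haveILetI false

namespace Cfsg.Lib.Jordan.Modular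

universe u v

open Module Finset

/-- Fibre bound for a map on a finite type. -/
theorem card_le_mul_of_fibers {α : Type*} [Finite α] {β : Type*} (f : α → β) (t : Finset β)
    (hf : ∀ a, f a ∈ t) (k : ℕ) (hk : ∀ a : α, Nat.card {b : α // f b = f a} ≤ k) :
    Nat.card α ≤ k * t.card := by
  classical
  haveI := Fintype.ofFinite α
  rw [Nat.card_eq_fintype_card, ← Finset.card_univ]
  refine (Finset.card_le_mul_card_image (f := f) univ k fun b hb => ?_).trans
    (Nat.mul_le_mul_left _ (Finset.card_le_card fun b hb => ?_))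
  · obtain ⟨a, -, rfl⟩ := Finset.mem_image.1 hb
    refine le_trans (le_of_eq ?_) (hk a)
    rw [Nat.card_eq_fintype_card, Fintype.card_subtype]
  · obtain ⟨a, -, rfl⟩ := Finset.mem_image.1 hb
    exact hf a

theorem one_add_pow_of_sq_zero {R : Type*} [Ring R] {a : R} (ha : a * a = 0) (k : ℕ) :
    (1 + a) ^ k = 1 + k • a := by
  induction k with
  | zero => simp
  | succ k ih => rw [pow_succ, ih, mul_add, mul_one, add_mul, one_mul, smul_mul_assoc, ha, smul_zero,
      add_zero, succ_nsmul, add_assoc]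

section

variable {G : Type u} [Group G] {F : Type v} [Field F] {V : Type v} [AddCommGroup V] [Module F V]

/-- The elements acting as scalars. -/
def scalars (ρ : Representation F G V) : Subgroup G where
  carrier := {g | ∃ c : F, ρ g = c • (1 : Module.End F V)}
  one_mem' := ⟨1, by rw [map_one, one_smul]⟩
  mul_mem' := fun {a b} ⟨c, hc⟩ ⟨d, hd⟩ => ⟨c * d, by rw [map_mul, hc, hd, smul_mul_smul_comm, one_mul]⟩
  inv_mem' := fun {a} ⟨c, hc⟩ => by
    have h1 : ρ a⁻¹ * ρ a = 1 := by rw [← map_mul, inv_mul_cancel, map_one]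
    rw [hc, mul_smul_comm, mul_one] at h1
    by_cases hc0 : c = 0
    · rw [hc0, zero_smul] at h1
      exact ⟨0, by rw [zero_smul, ← mul_one (ρ a⁻¹), ← h1, mul_zero]⟩
    · exact ⟨c⁻¹, by rw [← h1, smul_smul, inv_mul_cancel₀ hc0, one_smul]⟩

theorem mem_scalars {ρ : Representation F G V} {g : G} :
    g ∈ scalars ρ ↔ ∃ c : F, ρ g = c • (1 : Module.End F V) := Iff.rfl

theorem smul_one_inj [Nontrivial V] {c d : F} (h : c • (1 : Module.End F V) = d • (1 : Module.End F V)) :
    c = d := by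
  obtain ⟨v, hv⟩ := exists_ne (0 : V)
  have h1 := LinearMap.congr_fun h v
  simp only [LinearMap.smul_apply, Module.End.one_apply] at h1
  exact smul_left_injective F hv h1

variable (ρ : Representation F G V) (hρ : Function.Injective ρ)
include hρ

theorem commute_iff {a b : G} : Commute a b ↔ Commute (ρ a) (ρ b) :=
  ⟨fun h => h.map ρ, fun h => hρ (by rw [map_mul, map_mul]; exact h.eq)⟩

theorem scalars_central : scalars ρ ≤ Subgroup.center G := by
  rintro z ⟨c, hc⟩
  refine Subgroup.mem_center_iff.2 fun g => hρ ?_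
  rw [map_mul, map_mul, hc, mul_smul_comm, smul_mul_assoc, mul_one, one_mul]

variable [Finite G] {p : ℕ} [Fact p.Prime] [CharP F p]

theorem scalars_coprime : (Nat.card (scalars ρ)).Coprime p := by
  have hp : p.Prime := Fact.out
  refine (hp.coprime_iff_not_dvd.2 fun hd => ?_).symm
  obtain ⟨⟨z, c, hc⟩, hz⟩ := exists_prime_orderOf_dvd_card' p hd
  rw [← Subgroup.orderOf_coe] at hz
  change orderOf z = p at hz
  have hzp : z ^ p = 1 := orderOf_dvd_iff_pow_eq_one.1 hz.dvd
  have hne : z ≠ 1 := fun h => hp.one_lt.ne (by rw [← hz, h, orderOf_one])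
  rcases subsingleton_or_nontrivial V with hV | hV
  · exact hne (hρ (LinearMap.ext fun v => Subsingleton.elim _ _))
  have h1 : c ^ p • (1 : Module.End F V) = (1 : F) • 1 := by
    rw [one_smul]
    calc c ^ p • (1 : Module.End F V) = ρ (z ^ p) := by rw [map_pow, hc, smul_pow, one_pow]
      _ = 1 := by rw [hzp, map_one]
  have h2 : c = 1 := frobenius_inj F p (by simpa [frobenius_def] using smul_one_inj h1)
  exact hne (hρ (by rw [hc, h2, one_smul, map_one]))

theorem stab [FiniteDimensional F V] (e L : ℕ) (hL : finrank F V * finrank F V ≤ L) (B : Subgroup G) :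
    ∃ i ≤ L, ∀ g : G, (∀ b ∈ B, Commute g (b ^ (e ^ (i + 1)))) → ∀ b ∈ B, Commute g (b ^ (e ^ i)) := by
  let S : ℕ → Submodule F (Module.End F V) := fun i =>
    { carrier := {M | ∀ b ∈ B, Commute M (ρ (b ^ (e ^ i)))}
      zero_mem' := fun b _ => Commute.zero_left _
      add_mem' := fun hM hN b hb => (hM b hb).add_left (hN b hb)
      smul_mem' := fun c M hM b hb => (hM b hb).smul_left c }
  have hmem : ∀ i M, M ∈ S i ↔ ∀ b ∈ B, Commute M (ρ (b ^ (e ^ i))) := fun _ _ => Iff.rfl
  have hmono : ∀ i, S i ≤ S (i + 1) := fun i M hM b hb => by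
    rw [pow_succ, pow_mul, map_pow]
    exact ((hmem i M).1 hM b hb).pow_right e
  by_contra hcon
  push_neg at hcon
  have hgrow : ∀ i ≤ L + 1, i ≤ finrank F (S i) := by
    intro i hi
    induction i with
    | zero => exact Nat.zero_le _
    | succ i ih =>
      obtain ⟨g, hg, b, hb, hne⟩ := hcon i (by omega)
      have hlt : S i < S (i + 1) := lt_of_le_not_ge (hmono i) fun hle => by
        have hg1 : ρ g ∈ S (i + 1) := fun c hc => (commute_iff ρ hρ).1 (hg c hc)
        exact hne ((commute_iff ρ hρ).2 ((hmem i _).1 (hle hg1) b hb))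
      have := Submodule.finrank_lt_finrank_of_lt hlt
      have := ih (by omega)
      omega
  have h1 := hgrow (L + 1) le_rfl
  have h2 := Submodule.finrank_le (S (L + 1))
  rw [Module.finrank_linearMap] at h2
  omega

variable [FiniteDimensional F V] [IsAlgClosed F]

theorem exists_weights (T : Subgroup G) (hc : ∀ a ∈ T, ∀ b ∈ T, Commute a b)
    (hT : (Nat.card T).Coprime p) :
    ∃ Λ : Finset (T → F), Λ.card ≤ finrank F V ∧
      (∀ χ : T → F, χ ∈ Λ ↔ ∃ v : V, v ≠ 0 ∧ ∀ t : T, ρ (t : G) v = χ t • v) ∧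
      ∀ t : T, (∀ χ ∈ Λ, χ t = 1) → (t : G) = 1 := by
  classical
  have hp : p.Prime := Fact.out
  set f : T → Module.End F V := fun t => ρ (t : G) with hf
  have hk : ((Nat.card T : ℕ) : F) ≠ 0 := by
    rw [Ne, CharP.cast_eq_zero_iff F p]
    exact hp.coprime_iff_not_dvd.1 hT.symm
  have hss : ∀ t, (f t).IsSemisimple := fun t => by
    refine Module.End.isSemisimple_of_squarefree_aeval_eq_zero
      (Polynomial.separable_X_pow_sub_C (1 : F) hk one_ne_zero).squarefree ?_
    rw [map_sub, map_pow, Polynomial.aeval_X, Polynomial.aeval_C, map_one, hf, ← map_pow,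
      ← Subgroup.coe_pow, pow_card_eq_one', Subgroup.coe_one, map_one, sub_self]
  have hgen : ∀ t μ, (f t).maxGenEigenspace μ = (f t).eigenspace μ :=
    fun t μ => (hss t).isFinitelySemisimple.maxGenEigenspace_eq_eigenspace μ
  have hcomm : ∀ s t, Commute (f s) (f t) := fun s t => (hc s s.2 t t.2).map ρ
  have htop := Module.End.iSup_iInf_maxGenEigenspace_eq_top_of_iSup_maxGenEigenspace_eq_top_of_commute
    f (fun s t _ => hcomm s t) (fun t => Module.End.iSup_maxGenEigenspace_eq_top (f t))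
  have hind := Module.End.independent_iInf_maxGenEigenspace_of_forall_mapsTo f
    (fun s t μ => Module.End.mapsTo_maxGenEigenspace_of_comm (hcomm t s) μ)
  have hfin := WellFoundedGT.finite_ne_bot_of_iSupIndep hind
  haveI := hfin.fintype
  haveI : Fintype {χ : T → F // (⨅ t, (f t).maxGenEigenspace (χ t)) ≠ ⊥} := hfin.fintype
  have hmem : ∀ (χ : T → F) (v : V), v ∈ (⨅ t, (f t).maxGenEigenspace (χ t)) ↔
      ∀ t : T, ρ (t : G) v = χ t • v := by
    intro χ v
    simp only [Submodule.mem_iInf, hgen, Module.End.mem_eigenspace_iff]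
    rfl
  refine ⟨hfin.toFinset, ?_, fun χ => ?_, fun t ht => ?_⟩
  · rw [← Set.ncard_eq_toFinset_card _ hfin, ← Nat.card_coe_set_eq]
    calc _ = Nat.card {χ : T → F // (⨅ t, (f t).maxGenEigenspace (χ t)) ≠ ⊥} := rfl
      _ = _ := Nat.card_eq_fintype_card
      _ ≤ _ := hind.subtype_ne_bot_le_finrank
  · rw [hfin.mem_toFinset]
    constructor
    · intro h
      obtain ⟨v, hv, hv0⟩ := Submodule.exists_mem_ne_zero_of_ne_bot h
      exact ⟨v, hv0, (hmem χ v).1 hv⟩
    · rintro ⟨v, hv0, hv⟩ h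
      have h1 := (hmem χ v).2 hv
      rw [h, Submodule.mem_bot] at h1
      exact hv0 h1
  · refine hρ ?_
    rw [map_one]
    have h1 : ⊤ ≤ LinearMap.eqLocus (ρ (t : G)) (1 : Module.End F V) := by
      rw [← htop]
      refine iSup_le fun χ v hv => ?_
      rcases eq_or_ne v 0 with rfl | hv0
      · simp
      have h2 := ht χ (hfin.mem_toFinset.2 fun h => hv0 (by rwa [h, Submodule.mem_bot] at hv))
      show ρ (t : G) v = v
      rw [(hmem χ v).1 hv t, h2, one_smul]
    exact LinearMap.ext fun v => h1 Submodule.mem_top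

theorem card_le_powSub (B : Subgroup G) (hc : ∀ a ∈ B, ∀ b ∈ B, Commute a b)
    (hB : (Nat.card B).Coprime p) (k : ℕ) (hk : 0 < k) (n : ℕ) (hn : finrank F V ≤ n) :
    Nat.card B ≤ k ^ n * Nat.card (powSub B k) := by
  classical
  obtain ⟨Λ, hΛn, hΛ, hfaith⟩ := exists_weights ρ hρ B hc hB
  haveI := Fintype.ofFinite G
  let f : B → powSub B k := fun b => ⟨(b : G) ^ k, Subgroup.subset_closure ⟨b, b.2, rfl⟩⟩
  refine (card_le_mul_of_fibers f univ (fun _ => mem_univ _) (k ^ n) fun a => ?_).trans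
    (le_of_eq (by rw [card_univ, Nat.card_eq_fintype_card]))
  let R : Finset F := (Polynomial.nthRoots k (1 : F)).toFinset
  have hRk : R.card ≤ k := (Multiset.toFinset_card_le _).trans (Polynomial.card_nthRoots k 1)
  have hval : ∀ b : {b : B // f b = f a}, ∀ χ : Λ, χ.1 (a⁻¹ * b.1) ∈ R := fun b χ => by
    obtain ⟨v, hv0, hv⟩ := (hΛ χ.1).1 χ.2
    rw [Multiset.mem_toFinset, Polynomial.mem_nthRoots hk]
    have hpow : ((a⁻¹ * b.1 : B) : G) ^ k = 1 := by
      have hb : (b.1 : G) ^ k = (a : G) ^ k := congrArg Subtype.val b.2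
      have hcm : Commute (a : G)⁻¹ (b.1 : G) := (hc _ a.2 _ b.1.2).inv_left
      rw [Subgroup.coe_mul, Subgroup.coe_inv, hcm.mul_pow, inv_pow, hb, inv_mul_cancel]
    refine smul_left_injective F hv0 ?_
    show χ.1 (a⁻¹ * b.1) ^ k • v = (1 : F) • v
    have hit : ∀ j : ℕ, ((ρ ((a⁻¹ * b.1 : B) : G)) ^ j) v = χ.1 (a⁻¹ * b.1) ^ j • v := fun j => by
      induction j with
      | zero => simp
      | succ j ih => rw [pow_succ, Module.End.mul_apply, hv, map_smul, ih, smul_smul, ← pow_succ']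
    rw [← hit, ← map_pow, hpow, map_one, one_smul, Module.End.one_apply]
  let g : {b : B // f b = f a} → (Λ → R) := fun b χ => ⟨_, hval b χ⟩
  have hg : Function.Injective g := by
    intro b₁ b₂ h
    have key : ∀ χ ∈ Λ, χ ((a⁻¹ * b₁.1)⁻¹ * (a⁻¹ * b₂.1)) = 1 := fun χ hχ => by
      obtain ⟨v, hv0, hv⟩ := (hΛ χ).1 hχ
      have he : χ (a⁻¹ * b₁.1) = χ (a⁻¹ * b₂.1) := congrArg Subtype.val (congrFun h ⟨χ, hχ⟩)
      refine smul_left_injective F hv0 ?_
      show χ _ • v = (1 : F) • v
      rw [← hv, Subgroup.coe_mul, Subgroup.coe_inv, map_mul, Module.End.mul_apply, hv, ← he, ← hv,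
        ← Module.End.mul_apply, ← map_mul, inv_mul_cancel, map_one, one_smul, Module.End.one_apply]
    have h1 : (a⁻¹ * b₁.1)⁻¹ * (a⁻¹ * b₂.1) = 1 := Subtype.ext (hfaith _ key)
    exact Subtype.ext (mul_left_cancel (inv_mul_eq_one.1 h1))
  refine (Nat.card_le_card_of_injective g hg).trans ?_
  rw [Nat.card_fun, Nat.card_eq_fintype_card (α := R), Nat.card_eq_fintype_card (α := Λ),
    Fintype.card_coe, Fintype.card_coe]
  exact (Nat.pow_le_pow_left hRk _).trans (Nat.pow_le_pow_right hk (hΛn.trans hn))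

theorem card_normalizer_le_pow (T : Subgroup G) (hc : ∀ a ∈ T, ∀ b ∈ T, Commute a b)
    (hT : (Nat.card T).Coprime p) (n : ℕ) (hn : finrank F V ≤ n) :
    Nat.card (Subgroup.normalizer (T : Set G)) ≤
      (n + 1) ^ (n + 1) * Nat.card (Subgroup.centralizer (T : Set G)) := by
  classical
  obtain ⟨Λ, hΛn, hΛ, hfaith⟩ := exists_weights ρ hρ T hc hT
  set N := Subgroup.normalizer (T : Set G)
  have hconj : ∀ g : N, ∀ t : T, (g : G)⁻¹ * t * g ∈ T := fun g t =>
    (Subgroup.mem_normalizer_iff''.1 g.2 t).1 t.2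
  have hmove : ∀ g : N, ∀ χ : Λ, (fun t : T => χ.1 ⟨(g : G)⁻¹ * t * g, hconj g t⟩) ∈ Λ := fun g χ => by
    obtain ⟨v, hv0, hv⟩ := (hΛ χ.1).1 χ.2
    refine (hΛ _).2 ⟨ρ (g : G) v, fun h => hv0 ?_, fun t => ?_⟩
    · have := congrArg (ρ (g : G)⁻¹) h
      rwa [map_zero, ← Module.End.mul_apply, ← map_mul, inv_mul_cancel, map_one,
        Module.End.one_apply] at this
    · rw [← Module.End.mul_apply, ← map_mul,
        show (t : G) * g = g * ((g : G)⁻¹ * t * g) by group, map_mul, Module.End.mul_apply,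
        hv ⟨_, hconj g t⟩, map_smul]
  let f : N → (Λ → Λ) := fun g χ => ⟨_, hmove g χ⟩
  refine (card_le_mul_of_fibers f univ (fun _ => mem_univ _)
    (Nat.card (Subgroup.centralizer (T : Set G))) fun a => ?_).trans (le_of_le_of_eq
    (Nat.mul_le_mul_left _ ?_) (mul_comm _ _))
  · refine Nat.card_le_card_of_injective
      (fun b : {b : N // f b = f a} => (⟨(b.1 : G) * (a : G)⁻¹, ?_⟩ :
        Subgroup.centralizer (T : Set G))) ?_
    · refine Subgroup.mem_centralizer_iff.2 fun t ht => ?_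
      have key : (⟨(b.1 : G)⁻¹ * t * b.1, hconj b.1 ⟨t, ht⟩⟩ : T) =
          ⟨(a : G)⁻¹ * t * a, hconj a ⟨t, ht⟩⟩ := by
        refine inv_mul_eq_one.1 (Subtype.ext (hfaith _ fun χ hχ => ?_))
        obtain ⟨v, hv0, hv⟩ := (hΛ χ).1 hχ
        have he : χ ⟨(b.1 : G)⁻¹ * t * b.1, hconj b.1 ⟨t, ht⟩⟩ = χ ⟨(a : G)⁻¹ * t * a, hconj a ⟨t, ht⟩⟩ :=
          congrFun (congrArg Subtype.val (congrFun b.2 ⟨χ, hχ⟩)) ⟨t, ht⟩
        refine smul_left_injective F hv0 ?_
        show χ _ • v = (1 : F) • v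
        rw [← hv, Subgroup.coe_mul, Subgroup.coe_inv, map_mul, Module.End.mul_apply, hv, ← he, ← hv,
          ← Module.End.mul_apply, ← map_mul, inv_mul_cancel, map_one, one_smul, Module.End.one_apply]
      have k1 : (b.1 : G)⁻¹ * t * b.1 = (a : G)⁻¹ * t * a := congrArg Subtype.val key
      calc t * ((b.1 : G) * (a : G)⁻¹) = (b.1 : G) * ((b.1 : G)⁻¹ * t * b.1) * (a : G)⁻¹ := by group
        _ = (b.1 : G) * ((a : G)⁻¹ * t * a) * (a : G)⁻¹ := by rw [k1]
        _ = (b.1 : G) * (a : G)⁻¹ * t := by group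
    · intro b₁ b₂ h
      exact Subtype.ext (Subtype.ext (mul_right_cancel (congrArg Subtype.val h)))
  · rw [card_univ, Fintype.card_fun, Fintype.card_coe]
    exact (Nat.pow_le_pow_left ((hΛn.trans hn).trans n.le_succ) _).trans
      (Nat.pow_le_pow_right n.succ_pos ((hΛn.trans hn).trans n.le_succ))

theorem card_scal_le (x : G) (n : ℕ) (hn : finrank F V ≤ n) :
    Nat.card {g : G // x⁻¹ * (g * x * g⁻¹) ∈ scalars ρ} ≤
      (n + 1) ^ (n + 1) * Nat.card (Subgroup.centralizer ({x} : Set G)) := by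
  classical
  rcases subsingleton_or_nontrivial V with hV | hV
  · haveI : Subsingleton G := ⟨fun a b => hρ (LinearMap.ext fun v => Subsingleton.elim _ _)⟩
    calc Nat.card {g : G // x⁻¹ * (g * x * g⁻¹) ∈ scalars ρ} ≤ 1 :=
          Finite.card_le_one_iff_subsingleton.2 inferInstance
      _ ≤ _ := Nat.mul_pos (pow_pos n.succ_pos _) Nat.card_pos
  choose c hc using fun g : {g : G // x⁻¹ * (g * x * g⁻¹) ∈ scalars ρ} => mem_scalars.1 g.2
  let R : Finset F := (Polynomial.nthRoots n.factorial (1 : F)).toFinset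
  have hcR : ∀ g, c g ∈ R := fun g => by
    rw [Multiset.mem_toFinset, Polynomial.mem_nthRoots n.factorial_pos]
    have hxg : ρ (g.1 * x) = c g • ρ (x * g.1) := by
      have e : g.1 * x = x * (x⁻¹ * (g.1 * x * g.1⁻¹)) * g.1 := by group
      rw [e, map_mul, map_mul, hc g, mul_smul_comm, smul_mul_assoc, mul_one, map_mul]
    have hc0 : c g ≠ 0 := fun h0 => by
      rw [h0, zero_smul] at hxg
      obtain ⟨v, hv⟩ := exists_ne (0 : V)
      apply hv
      have := congrArg (fun M : Module.End F V => ρ (g.1 * x)⁻¹ * M) hxg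
      simp only [← map_mul, inv_mul_cancel, map_one, mul_zero] at this
      simpa using LinearMap.congr_fun this v
    obtain ⟨μ, hμ⟩ := Module.End.exists_eigenvalue (ρ x)
    obtain ⟨v, hv⟩ := hμ.exists_hasEigenvector
    have hμ0 : μ ≠ 0 := fun h0 => hv.2 (by
      have h1 := congrArg (ρ x⁻¹) hv.apply_eq_smul
      rwa [h0, zero_smul, map_zero, ← Module.End.mul_apply, ← map_mul, inv_mul_cancel, map_one,
        Module.End.one_apply] at h1)
    have hev : ∀ j : ℕ, Module.End.HasEigenvalue (ρ x) ((c g)⁻¹ ^ j * μ) := fun j => by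
      induction j with
      | zero => simpa using hμ
      | succ j ih =>
        obtain ⟨w, hw⟩ := ih.exists_hasEigenvector
        refine Module.End.hasEigenvalue_of_hasEigenvector (x := ρ g.1 w) ⟨Module.End.mem_eigenspace_iff.2 ?_, ?_⟩
        · have h1 := LinearMap.congr_fun hxg w
          rw [map_mul, map_mul, LinearMap.smul_apply, Module.End.mul_apply, Module.End.mul_apply,
            hw.apply_eq_smul, map_smul] at h1
          rw [pow_succ', mul_assoc, ← smul_smul, h1, smul_smul, inv_mul_cancel₀ hc0, one_smul]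
        · intro h0
          apply hw.2
          have := congrArg (ρ g.1⁻¹) h0
          rwa [map_zero, ← Module.End.mul_apply, ← map_mul, inv_mul_cancel, map_one,
            Module.End.one_apply] at this
    have hninj : ¬ Function.Injective fun j : Fin (n + 1) => (c g)⁻¹ ^ (j : ℕ) * μ := fun hinj => by
      choose w hw using fun j : Fin (n + 1) => (hev j).exists_hasEigenvector
      have h1 := (Module.End.eigenvectors_linearIndependent' (ρ x) _ hinj w hw).fintype_card_le_finrank
      rw [Fintype.card_fin] at h1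
      omega
    obtain ⟨i, j, hij, hne⟩ := Function.not_injective_iff.1 hninj
    have hpow := mul_right_cancel₀ hμ0 hij
    rw [inv_pow, inv_pow, inv_inj] at hpow
    have key : ∀ i j : ℕ, i < j → j ≤ n → c g ^ i = c g ^ j → c g ^ n.factorial = 1 := by
      intro i j hlt hjn hpow
      have h1 : c g ^ (j - i) = 1 := by
        rw [← mul_left_cancel₀ (pow_ne_zero i hc0) (b := c g ^ (j - i)) (c := 1)
          (by rw [← pow_add, mul_one, Nat.add_sub_cancel' hlt.le, hpow])]
      obtain ⟨d, hd⟩ := Nat.dvd_factorial (show 0 < j - i by omega) (show j - i ≤ n by omega)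
      rw [hd, pow_mul, h1, one_pow]
    rcases lt_or_gt_of_ne (fun h => hne (Fin.ext h) : (i : ℕ) ≠ j) with h | h
    · exact key i j h (Nat.lt_succ_iff.1 j.2) hpow
    · exact key j i h (Nat.lt_succ_iff.1 i.2) hpow.symm
  refine (card_le_mul_of_fibers c R hcR (Nat.card (Subgroup.centralizer ({x} : Set G))) fun a => ?_).trans
    (le_of_le_of_eq (Nat.mul_le_mul_left _ ?_) (mul_comm _ _))
  · refine Nat.card_le_card_of_injective
      (fun b : {b // c b = c a} => (⟨(a.1)⁻¹ * b.1.1, ?_⟩ : Subgroup.centralizer ({x} : Set G))) ?_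
    · have h1 : x⁻¹ * (b.1.1 * x * b.1.1⁻¹) = x⁻¹ * (a.1 * x * a.1⁻¹) := hρ (by rw [hc, hc, b.2])
      refine Subgroup.mem_centralizer_singleton_iff.2 ?_
      have h2 : b.1.1 * x * b.1.1⁻¹ = a.1 * x * a.1⁻¹ := mul_left_cancel h1
      calc a.1⁻¹ * b.1.1 * x = a.1⁻¹ * (b.1.1 * x * b.1.1⁻¹) * b.1.1 := by group
        _ = a.1⁻¹ * (a.1 * x * a.1⁻¹) * b.1.1 := by rw [h2]
        _ = x * (a.1⁻¹ * b.1.1) := by group
    · intro b₁ b₂ h
      exact Subtype.ext (Subtype.ext (mul_left_cancel (congrArg Subtype.val h)))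
  · refine ((Multiset.toFinset_card_le _).trans (Polynomial.card_nthRoots _ _)).trans ?_
    exact (Nat.factorial_le_pow n).trans
      ((Nat.pow_le_pow_left n.le_succ n).trans (Nat.pow_le_pow_right n.succ_pos n.le_succ))

end

/-- A linear group with a proper nonzero invariant subspace. -/
theorem reducible {p m n J : ℕ} [Fact p.Prime]
    (ih : ∀ (G : Type u) [Group G] [Finite G] (F : Type v) [Field F] [IsAlgClosed F] [CharP F p]
      (V : Type v) [AddCommGroup V] [Module F V] [FiniteDimensional F V] (ρ : Representation F G V),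
      finrank F V ≤ n → Function.Injective ρ → ¬ p ^ (m + 1) ∣ Nat.card G →
      ∃ A : Subgroup G, A.Normal ∧ (∀ a ∈ A, ∀ b ∈ A, Commute a b) ∧ (Nat.card A).Coprime p ∧ A.index ≤ J)
    {G : Type u} [Group G] [Finite G] {F : Type v} [Field F] [IsAlgClosed F] [CharP F p]
    {V : Type v} [AddCommGroup V] [Module F V] [FiniteDimensional F V] (ρ : Representation F G V)
    (hn : finrank F V ≤ n + 1) (hρ : Function.Injective ρ) (hm : ¬ p ^ (m + 1) ∣ Nat.card G)
    (W : Submodule F V) (hW : ∀ (g : G), ∀ v ∈ W, ρ g v ∈ W) (hW0 : W ≠ ⊥) (hW1 : W ≠ ⊤) :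
    ∃ A : Subgroup G, A.Normal ∧ (∀ a ∈ A, ∀ b ∈ A, Commute a b) ∧ (Nat.card A).Coprime p ∧
      A.index ≤ J * J * (p ^ m).factorial * p ^ m := by
  classical
  have hp : p.Prime := Fact.out
  let ρ₁ : Representation F G W :=
    { toFun := fun g => (ρ g).restrict (hW g)
      map_one' := LinearMap.ext fun v => Subtype.ext (by simp [LinearMap.restrict_apply])
      map_mul' := fun a b => LinearMap.ext fun v => Subtype.ext (by simp [LinearMap.restrict_apply]) }
  let ρ₂ : Representation F G (V ⧸ W) :=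
    { toFun := fun g => W.mapQ W (ρ g) (fun v hv => hW g v hv)
      map_one' := Submodule.linearMap_qext _ (LinearMap.ext fun v => by simp)
      map_mul' := fun a b => Submodule.linearMap_qext _ (LinearMap.ext fun v => by simp) }
  have hd1 : finrank F W ≤ n := by
    have := Submodule.finrank_lt hW1
    omega
  have hd2 : finrank F (V ⧸ W) ≤ n := by
    have h1 := Submodule.finrank_quotient_add_finrank W
    have h2 : 0 < finrank F W := by
      rcases Nat.eq_zero_or_pos (finrank F W) with h | h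
      · exact absurd (Submodule.finrank_eq_zero.1 h) hW0
      · exact h
    omega
  have quot : ∀ (U : Type v) [AddCommGroup U] [Module F U] [FiniteDimensional F U]
      (σ : Representation F G U), finrank F U ≤ n →
      ∃ X : Subgroup G, X.Normal ∧ σ.ker ≤ X ∧ (∀ a ∈ X, ∀ b ∈ X, a * b * a⁻¹ * b⁻¹ ∈ σ.ker) ∧
        X.index ≤ J ∧ ∃ k, k.Coprime p ∧ ∀ a ∈ X, a ^ k ∈ σ.ker := by
    intro U _ _ _ σ hU
    have hinj : Function.Injective (QuotientGroup.lift σ.ker σ le_rfl) := by
      intro a b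
      induction a using QuotientGroup.induction_on with
      | H a => induction b using QuotientGroup.induction_on with
        | H b =>
          intro h
          rw [QuotientGroup.lift_mk, QuotientGroup.lift_mk] at h
          refine QuotientGroup.eq.2 (MonoidHom.mem_ker.2 ?_)
          rw [map_mul, ← h, ← map_mul, inv_mul_cancel, map_one]
    obtain ⟨A, hAn, hAc, hAp, hAi⟩ := ih (G ⧸ σ.ker) F U (QuotientGroup.lift σ.ker σ le_rfl) hU hinj
      (fun h => hm (h.trans (Subgroup.card_quotient_dvd_card _)))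
    refine ⟨A.comap (QuotientGroup.mk' _), inferInstance, fun a ha => ?_, fun a ha b hb => ?_, ?_,
      Nat.card A, hAp, fun a ha => ?_⟩
    · rw [Subgroup.mem_comap, QuotientGroup.mk'_apply, (QuotientGroup.eq_one_iff a).2 ha]
      exact one_mem _
    · rw [← QuotientGroup.eq_one_iff]
      have h1 := (hAc _ ha _ hb).eq
      simp only [QuotientGroup.mk'_apply] at h1
      simp only [QuotientGroup.mk_mul, QuotientGroup.mk_inv]
      rw [h1]; group
    · rwa [Subgroup.index_comap_of_surjective _ (QuotientGroup.mk'_surjective _)]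
    · rw [← QuotientGroup.eq_one_iff, QuotientGroup.mk_pow]
      exact congrArg Subtype.val (pow_card_eq_one' (x := (⟨_, ha⟩ : A)))
  obtain ⟨X₁, hX₁n, -, hX₁c, hX₁i, k₁, hk₁, hX₁k⟩ := quot W ρ₁ hd1
  obtain ⟨X₂, hX₂n, -, hX₂c, hX₂i, k₂, hk₂, hX₂k⟩ := quot (V ⧸ W) ρ₂ hd2
  set N := ρ₁.ker ⊓ ρ₂.ker with hN
  -- the kernel is a p-group
  have hNp : IsPGroup p N := by
    intro ⟨g, hg1, hg2⟩
    refine ⟨1, Subtype.ext (hρ ?_)⟩
    rw [SubmonoidClass.coe_pow, Subgroup.coe_one, pow_one, map_pow, map_one]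
    have hin : ∀ v, ρ g v - v ∈ W := fun v => by
      have := LinearMap.congr_fun (MonoidHom.mem_ker.1 hg2) (Submodule.Quotient.mk v)
      exact (Submodule.Quotient.eq W).1 this
    have hfix : ∀ v ∈ W, ρ g v = v := fun v hv =>
      congrArg Subtype.val (LinearMap.congr_fun (MonoidHom.mem_ker.1 hg1) ⟨v, hv⟩)
    set a := ρ g - 1 with ha
    have ha2 : a * a = 0 := LinearMap.ext fun v => by
      simp only [ha, Module.End.mul_apply, LinearMap.sub_apply, Module.End.one_apply, LinearMap.zero_apply]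
      rw [hfix _ (hin v), sub_self]
    rw [show ρ g = 1 + a by rw [ha]; abel, one_add_pow_of_sq_zero ha2, ← Nat.cast_smul_eq_nsmul F,
      CharP.cast_eq_zero, zero_smul, add_zero]
  have hNle : Nat.card N ∣ p ^ m := by
    obtain ⟨k, hk⟩ := IsPGroup.iff_card.1 hNp
    rw [hk]
    refine pow_dvd_pow p (Nat.lt_succ_iff.1 (Nat.lt_of_not_le fun h => hm ?_))
    exact (pow_dvd_pow p h).trans (hk ▸ Subgroup.card_subgroup_dvd_card N)
  set C := X₁ ⊓ X₂ ⊓ Subgroup.centralizer (N : Set G) with hC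
  haveI : C.Normal := inferInstance
  set A := Subgroup.closure ((fun c : G => c ^ p ^ m) '' (C : Set G)) with hA
  have hcent : ∀ c ∈ C, ∀ d ∈ C, Commute (c ^ p ^ m) d := by
    intro c hc d hd
    set z := c * d * c⁻¹ * d⁻¹ with hz
    have hzN : z ∈ N := ⟨hX₁c c hc.1.1 d hd.1.1, hX₂c c hc.1.2 d hd.1.2⟩
    have hzc : Commute c z := (Subgroup.mem_centralizer_iff.1 hc.2 z hzN).symm
    have hit : ∀ k : ℕ, c ^ k * d = z ^ k * d * c ^ k := by
      intro k
      induction k with
      | zero => simp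
      | succ k ih =>
        calc c ^ (k + 1) * d = c * (c ^ k * d) := by rw [pow_succ']; group
          _ = c * z ^ k * d * c ^ k := by rw [ih]; group
          _ = z ^ k * (z * d * c) * c ^ k := by
              rw [(hzc.pow_right k).eq, hz]; group
          _ = _ := by rw [pow_succ, pow_succ']; group
    have h1 := hit (p ^ m)
    have h2 : z ^ p ^ m = 1 := orderOf_dvd_iff_pow_eq_one.1 ((N.orderOf_dvd_natCard hzN).trans hNle)
    rw [h2, one_mul] at h1
    exact h1
  have hAC : A ≤ C := (Subgroup.closure_le _).2 (by rintro _ ⟨c, hc, rfl⟩; exact pow_mem hc _)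
  haveI hAn : A.Normal := by
    refine ⟨fun a ha g => ?_⟩
    have : A.map (MulAut.conj g).toMonoidHom ≤ A := by
      rw [hA, MonoidHom.map_closure, Subgroup.closure_le]
      rintro _ ⟨_, ⟨c, hc, rfl⟩, rfl⟩
      exact Subgroup.subset_closure ⟨g * c * g⁻¹, Subgroup.Normal.conj_mem ‹C.Normal› c hc g,
        (map_pow (MulAut.conj g) c (p ^ m)).symm⟩
    exact this ⟨a, ha, rfl⟩
  have hgc : ∀ a ∈ (fun c : G => c ^ p ^ m) '' (C : Set G), ∀ b ∈ (fun c : G => c ^ p ^ m) '' (C : Set G),
      Commute a b := by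
    rintro _ ⟨c, hc, rfl⟩ _ ⟨d, hd, rfl⟩
    exact hcent c hc _ (pow_mem hd _)
  have hk : (k₁ * k₂).Coprime p := hk₁.mul_left hk₂
  have hkN : ∀ c ∈ C, c ^ (k₁ * k₂) ∈ N := fun c hc =>
    ⟨pow_mul c k₁ k₂ ▸ pow_mem (hX₁k c hc.1.1) k₂,
      (mul_comm k₁ k₂ ▸ pow_mul c k₂ k₁).symm ▸ pow_mem (hX₂k c hc.1.2) k₁⟩
  refine ⟨A, hAn, closure_commute hgc, coprime_of_closure hgc ?_, ?_⟩
  · rintro _ ⟨c, hc, rfl⟩
    refine hk.coprime_dvd_left (orderOf_dvd_iff_pow_eq_one.2 ?_)
    show (c ^ p ^ m) ^ (k₁ * k₂) = 1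
    rw [← pow_mul, mul_comm, pow_mul]
    exact orderOf_dvd_iff_pow_eq_one.1 ((N.orderOf_dvd_natCard (hkN c hc)).trans hNle)
  -- the index
  have hNn : N.Normal := inferInstance
  have hcentN : (Subgroup.centralizer (N : Set G)).index ≤ (p ^ m).factorial := by
    haveI := hNn
    have hle : (MulAut.conjNormal (H := N)).ker ≤ Subgroup.centralizer (N : Set G) := fun g hg =>
      Subgroup.mem_centralizer_iff.2 fun y hy => by
        have h1 : g * y * g⁻¹ = y := by
          simpa using congrArg Subtype.val (MulEquiv.ext_iff.1 (MonoidHom.mem_ker.1 hg) ⟨y, hy⟩)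
        calc y * g = g * y * g⁻¹ * g := by rw [h1]
          _ = g * y := by group
    refine (Nat.le_of_dvd (Nat.pos_of_ne_zero Subgroup.index_ne_zero_of_finite)
      (Subgroup.index_dvd_of_le hle)).trans ?_
    rw [Subgroup.index_ker]
    refine (Subgroup.card_le_card_group _).trans ?_
    haveI := Fintype.ofFinite N
    have : Function.Injective (fun e : MulAut N => e.toEquiv) := fun e e' h =>
      MulEquiv.toEquiv_injective h
    refine (Nat.card_le_card_of_injective _ this).trans ?_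
    rw [Nat.card_perm]
    exact Nat.factorial_le (Nat.le_of_dvd (pow_pos hp.pos _) hNle)
  have hCi : C.index ≤ J * J * (p ^ m).factorial := by
    refine (Subgroup.index_inf_le).trans (Nat.mul_le_mul ?_ hcentN)
    exact (Subgroup.index_inf_le).trans (Nat.mul_le_mul hX₁i hX₂i)
  have hCle : C ≤ N ⊔ A := by
    intro c hc
    have hcp : Nat.Coprime (k₁ * k₂) (p ^ m) := hk.pow_right m
    have hb := Nat.gcd_eq_gcd_ab (k₁ * k₂) (p ^ m)
    rw [Nat.coprime_iff_gcd_eq_one.1 hcp] at hb
    rw [show c = (c ^ (k₁ * k₂)) ^ Nat.gcdA (k₁ * k₂) (p ^ m) * (c ^ p ^ m) ^ Nat.gcdB (k₁ * k₂) (p ^ m) by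
      rw [← zpow_natCast c, ← zpow_mul, ← zpow_natCast c, ← zpow_mul, ← zpow_add, ← hb, Nat.cast_one,
        zpow_one]]
    exact mul_mem (Subgroup.mem_sup_left (zpow_mem (hkN c hc) _))
      (Subgroup.mem_sup_right (zpow_mem (show c ^ p ^ m ∈ A from Subgroup.subset_closure ⟨c, hc, rfl⟩) _))
  rw [← Subgroup.relIndex_mul_index hAC]
  refine (Nat.mul_le_mul ?_ hCi).trans (le_of_eq (mul_comm _ _))
  refine (Subgroup.relIndex_le_of_le_right hCle Subgroup.index_ne_zero_of_finite).trans ?_
  rw [Subgroup.relIndex_sup_right]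
  exact (Nat.le_of_dvd Nat.card_pos (Subgroup.index_dvd_card _)).trans
    (Nat.le_of_dvd (pow_pos hp.pos _) hNle)

/-- Jordan's theorem in characteristic `p` over algebraically closed fields. -/
theorem bounded (p m : ℕ) [Fact p.Prime] (n : ℕ) : ∃ J, 0 < J ∧
    ∀ (G : Type u) [Group G] [Finite G] (F : Type v) [Field F] [IsAlgClosed F] [CharP F p]
      (V : Type v) [AddCommGroup V] [Module F V] [FiniteDimensional F V] (ρ : Representation F G V),
      finrank F V ≤ n → Function.Injective ρ → ¬ p ^ (m + 1) ∣ Nat.card G →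
      ∃ A : Subgroup G, A.Normal ∧ (∀ a ∈ A, ∀ b ∈ A, Commute a b) ∧ (Nat.card A).Coprime p ∧
        A.index ≤ J := by
  classical
  induction n with
  | zero =>
    refine ⟨1, one_pos, ?_⟩
    intro G _ _ F _ _ _ V _ _ _ ρ hn hρ _
    haveI : Subsingleton V := Module.finrank_zero_iff.1 (Nat.le_zero.1 hn)
    haveI : Subsingleton G := ⟨fun a b => hρ (LinearMap.ext fun v => Subsingleton.elim _ _)⟩
    refine ⟨⊥, inferInstance, fun a _ b _ => Subsingleton.elim _ _, ?_, ?_⟩
    · rw [Subgroup.card_bot]; exact Nat.coprime_one_left p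
    · rw [Subgroup.index_bot]; exact Finite.card_le_one_iff_subsingleton.2 inferInstance
  | succ n ih =>
    obtain ⟨J, hJ, ih⟩ := ih
    set J' := J * J * (p ^ m).factorial * p ^ m with hJ'
    have hJ'0 : 0 < J' := Nat.mul_pos (Nat.mul_pos (Nat.mul_pos hJ hJ) (Nat.factorial_pos _))
      (pow_pos (Fact.out : p.Prime).pos _)
    refine ⟨bound (n + 1) J' ((n + 2) ^ (n + 2)) ((n + 1) * (n + 1)) + 1, Nat.succ_pos _, ?_⟩
    intro G _ _ F _ _ _ V _ _ _ ρ hn hρ hm
    have hd : Data G p (scalars ρ) (n + 1) J' ((n + 2) ^ (n + 2)) ((n + 1) * (n + 1)) := by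
      refine ⟨scalars_central ρ hρ, scalars_coprime ρ hρ, hJ'0, pow_pos (Nat.succ_pos _) _, fun x hx => ?_,
        fun B hc hB k hk => card_le_powSub ρ hρ B hc hB k hk _ hn,
        fun T hc hT => card_normalizer_le_pow ρ hρ T hc hT _ hn, fun x => card_scal_le ρ hρ x _ hn,
        fun B => stab ρ hρ _ _ (Nat.mul_le_mul hn hn) B⟩
      haveI : Nontrivial V := by
        rcases subsingleton_or_nontrivial V with h | h
        · exact absurd ⟨1, LinearMap.ext fun v => Subsingleton.elim _ _⟩ hx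
        · exact h
      obtain ⟨μ, hμ⟩ := Module.End.exists_eigenvalue (ρ x)
      set C := Subgroup.centralizer ({x} : Set G) with hC
      obtain ⟨A, hAn, hAc, hAp, hAi⟩ := reducible ih (ρ.comp C.subtype) hn
        (hρ.comp Subtype.val_injective) (fun h => hm (h.trans (Subgroup.card_subgroup_dvd_card C)))
        (Module.End.eigenspace (ρ x) μ) (fun c v hv => by
          rw [Module.End.mem_eigenspace_iff] at hv ⊢
          show ρ x (ρ (c : G) v) = μ • ρ (c : G) v
          rw [← Module.End.mul_apply, ← map_mul,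
            ← Subgroup.mem_centralizer_singleton_iff.1 c.2, map_mul, Module.End.mul_apply, hv, map_smul])
        hμ (fun h => hx ⟨μ, LinearMap.ext fun v => by
          have hv : v ∈ Module.End.eigenspace (ρ x) μ := h ▸ Submodule.mem_top
          simpa using Module.End.mem_eigenspace_iff.1 hv⟩)
      refine ⟨A.map C.subtype, Subgroup.map_subtype_le A, ?_, ?_, ?_, ?_⟩
      · rintro c hc _ ⟨a, ha, rfl⟩
        exact ⟨⟨c, hc⟩ * a * ⟨c, hc⟩⁻¹, hAn.conj_mem a ha _, rfl⟩
      · rintro _ ⟨a, ha, rfl⟩ _ ⟨b, hb, rfl⟩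
        exact (hAc a ha b hb).map _
      · rwa [Subgroup.card_map_of_injective C.subtype_injective]
      · rw [Subgroup.card_map_of_injective C.subtype_injective, ← Subgroup.index_mul_card A]
        exact Nat.mul_le_mul_right _ hAi
    obtain ⟨A, h1, h2, h3, h4⟩ := core hd
    exact ⟨A, h1, h2, h3, h4.trans (Nat.le_succ _)⟩

end Cfsg.Lib.Jordan.Modular
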