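import Mathlib
import Cfsg.Agent.Jordan.Close

/-!
Blichfeldt's sixty degree theorem, for an element whose conjugates generate the group.
-/

set_option autoImplicit false

namespace Cfsg.Lib.Jordan

open scoped ComplexConjugate

universe u

variable {G : Type u} [Group G] [Fintype G] {n : ℕ} (ρ : Representation ℂ G (Fin n → ℂ))

theorem rep_inv_apply (g : G) (v : Fin n → ℂ) : ρ g⁻¹ (ρ g v) = v := by
  rw [← Module.End.mul_apply, ← map_mul, inv_mul_cancel, map_one, Module.End.one_apply]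

theorem rep_apply_inv (g : G) (v : Fin n → ℂ) : ρ g (ρ g⁻¹ v) = v := by
  rw [← Module.End.mul_apply, ← map_mul, mul_inv_cancel, map_one, Module.End.one_apply]

/-- In an irreducible group an element with eigenvalue `c`, all whose eigenvalues are at distance
less than one from `c`, and whose conjugates generate, is scalar. -/
theorem scalar_of_sixty [ρ.IsIrreducible] {x : G} {m : ℕ} (hm : m ≠ 0) (hx : x ^ m = 1) {c : ℂ}
    (hc : c ^ m = 1) {v₀ : Fin n → ℂ} (hv₀ : v₀ ≠ 0) (hxv₀ : ρ x v₀ = c • v₀) {r : ℝ} (hr0 : 0 ≤ r)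
    (hr1 : r < 1) (hB : Bound ρ x c r) (hgen : Subgroup.normalClosure ({x} : Set G) = ⊤) :
    ∀ v, ρ x v = c • v := by
  classical
  have hcn : ‖c‖ = 1 := Complex.norm_eq_one_of_pow_eq_one hc hm
  have hc0 : c ≠ 0 := by intro h; rw [h, norm_zero] at hcn; exact zero_ne_one hcn
  let E : G → Submodule ℂ (Fin n → ℂ) := fun g =>
    (LinearMap.ker (ρ x - c • (1 : Module.End ℂ (Fin n → ℂ)))).comap (ρ g⁻¹)
  have hE : ∀ g v, v ∈ E g ↔ ρ x (ρ g⁻¹ v) = c • ρ g⁻¹ v := fun g v => by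
    simp only [E, Submodule.mem_comap, LinearMap.mem_ker, LinearMap.sub_apply, LinearMap.smul_apply,
      Module.End.one_apply, sub_eq_zero]
  have hE1 : ∀ v, v ∈ E 1 ↔ ρ x v = c • v := fun v => by rw [hE, inv_one, map_one, Module.End.one_apply]
  have hEmap : ∀ g v, v ∈ E 1 → ρ g v ∈ E g := fun g v hv => by
    rw [hE, rep_inv_apply]; exact (hE1 v).1 hv
  set P := proj ρ x m c with hP
  have hPE : ∀ u, P u ∈ E 1 := fun u => (hE1 _).2 (rep_proj ρ hx hc u)
  have hpow : ∀ e ∈ E 1, ∀ i : ℕ, ρ (x ^ i) e = c ^ i • e := fun e he i => by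
    induction i with
    | zero => simp
    | succ i ih =>
      rw [pow_succ', map_mul, Module.End.mul_apply, ih, map_smul, (hE1 e).1 he, smul_smul, pow_succ]
  have hperp : ∀ u, ∀ e ∈ E 1, (inner ℂ (orb ρ e) (orb ρ (u - P u)) : ℂ) = 0 := by
    intro u e he
    rw [map_sub, inner_sub_right, sub_eq_zero]
    have h1 : ∀ i : ℕ, (inner ℂ (orb ρ e) (orb ρ (ρ (x ^ i) u)) : ℂ) = c ^ i * inner ℂ (orb ρ e) (orb ρ u) := by
      intro i
      have h := inner_orb_rep ρ (x ^ i) e u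
      rw [hpow e he i, map_smul, inner_smul_left] at h
      have hci : c ^ i * conj (c ^ i) = 1 := by
        rw [Complex.mul_conj, Complex.normSq_eq_norm_sq, norm_pow, hcn, one_pow, one_pow]; simp
      rw [← h, ← mul_assoc, hci, one_mul]
    simp only [hP, proj, LinearMap.smul_apply, LinearMap.sum_apply, map_smul, map_sum,
      inner_smul_right, inner_sum]
    rw [Finset.sum_congr rfl (g := fun _ => (inner ℂ (orb ρ e) (orb ρ u) : ℂ)) (fun i _ => by
        rw [h1, ← mul_assoc, ← mul_pow, inv_mul_cancel₀ hc0, one_pow, one_mul]),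
      Finset.sum_const, Finset.card_range, nsmul_eq_mul, ← mul_assoc,
      inv_mul_cancel₀ (Nat.cast_ne_zero.2 hm), one_mul]
  have hPfix : ∀ e ∈ E 1, P e = e := fun e he => by
    simp only [hP, proj, LinearMap.smul_apply, LinearMap.sum_apply]
    rw [Finset.sum_congr rfl (g := fun _ => e) (fun i _ => by
        rw [hpow e he i, smul_smul, ← mul_pow, inv_mul_cancel₀ hc0, one_pow, one_smul]),
      Finset.sum_const, Finset.card_range, ← Nat.cast_smul_eq_nsmul ℂ, smul_smul,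
      inv_mul_cancel₀ (Nat.cast_ne_zero.2 hm), one_smul]
  have hbest : ∀ u, ∀ e ∈ E 1, ‖orb ρ (u - P u)‖ ≤ ‖orb ρ (u - e)‖ := by
    intro u e he
    have hmem : P u - e ∈ E 1 := sub_mem (hPE u) he
    have h : ‖orb ρ (u - P u) + orb ρ (P u - e)‖ ^ 2 = ‖orb ρ (u - P u)‖ ^ 2 + ‖orb ρ (P u - e)‖ ^ 2 := by
      rw [norm_add_sq (𝕜 := ℂ), inner_eq_zero_symm.1 (hperp u _ hmem)]; simp
    rw [← map_add, sub_add_sub_cancel] at h
    exact (pow_le_pow_iff_left₀ (norm_nonneg _) (norm_nonneg _) two_ne_zero).1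
      (h ▸ le_add_of_nonneg_right (sq_nonneg _))
  -- the move
  have hmove : ∀ t : G, ∀ e ∈ E 1,
      ρ (t⁻¹ * x * t * x⁻¹) e - e = c⁻¹ • ρ t⁻¹ (ρ x (ρ t e) - c • ρ t e) := by
    intro t e he
    have h1 : ρ x⁻¹ e = c⁻¹ • e := by
      have h := rep_inv_apply ρ x e
      rw [(hE1 e).1 he, map_smul] at h
      rw [eq_inv_smul_iff₀ hc0]; exact h
    simp only [map_mul, Module.End.mul_apply, h1, map_smul, map_sub, smul_sub, rep_inv_apply,
      smul_smul, inv_mul_cancel₀ hc0, one_smul]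
  have hmove' : ∀ t : G, ∀ e ∈ E 1, ‖orb ρ (ρ (t⁻¹ * x * t * x⁻¹) e - e)‖ ≤ r * ‖orb ρ (ρ t e - P (ρ t e))‖ := by
    intro t e he
    have h2 : ρ x (ρ t e) - c • ρ t e = ρ x (ρ t e - P (ρ t e)) - c • (ρ t e - P (ρ t e)) := by
      rw [map_sub, smul_sub, (hE1 _).1 (hPE (ρ t e))]; abel
    rw [hmove t e he, map_smul, norm_smul, norm_inv, hcn, inv_one, one_mul, norm_orb_rep, h2]
    exact hB _
  -- compatibility
  have hcompat1 : ∀ t, ∀ v ∈ E t, P v ∈ E t := by
    let b := Module.finBasis ℂ (E 1)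
    let Φ : G → ℝ := fun t => ∑ j, ‖orb ρ (ρ t (b j : Fin n → ℂ) - P (ρ t (b j : Fin n → ℂ)))‖ ^ 2
    by_contra hbad
    simp only [not_forall] at hbad
    obtain ⟨t, htmem, hmin⟩ := Finset.exists_min_image (Finset.univ.filter fun t : G => ¬ ∀ v ∈ E t, P v ∈ E t) Φ
      (by obtain ⟨t, ht⟩ := hbad; exact ⟨t, Finset.mem_filter.2 ⟨Finset.mem_univ t, fun h => by
            obtain ⟨v, hv, hv'⟩ := ht; exact hv' (h v hv)⟩⟩)
    have ht := (Finset.mem_filter.1 htmem).2
    have hpos : 0 < Φ t := by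
      rcases (Finset.sum_nonneg fun j _ => sq_nonneg _ : 0 ≤ Φ t).lt_or_eq with h | h
      · exact h
      · exfalso
        apply ht
        have hb : ∀ j, ρ t (b j : Fin n → ℂ) ∈ E 1 := fun j => by
          have h0 := (Finset.sum_eq_zero_iff_of_nonneg fun i _ => sq_nonneg _).1 h.symm j (Finset.mem_univ j)
          rw [sub_eq_zero.1 (orb_eq_zero ρ (norm_eq_zero.1 (sq_eq_zero_iff.1 h0)))]
          exact hPE _
        intro v hv
        have hw : ρ t⁻¹ v ∈ E 1 := (hE1 _).2 ((hE t v).1 hv)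
        have hv1 : v ∈ E 1 := by
          have hle : ∀ e : E 1, ρ t (e : Fin n → ℂ) ∈ E 1 := fun e => by
            have he : e ∈ Submodule.comap ((ρ t).comp (E 1).subtype) (E 1) := by
              rw [← b.sum_repr e]
              exact sum_mem fun j _ => Submodule.smul_mem _ _ (hb j)
            exact he
          have := hle ⟨_, hw⟩
          rwa [rep_apply_inv] at this
        rwa [hPfix v hv1]
    set t' := t⁻¹ * x * t * x⁻¹ with ht'
    have hlt : Φ t' < Φ t := by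
      have h1 : Φ t' ≤ r ^ 2 * Φ t := by
        rw [Finset.mul_sum]
        refine Finset.sum_le_sum fun j _ => ?_
        rw [← mul_pow]
        exact pow_le_pow_left₀ (norm_nonneg _) ((hbest _ _ (b j).2).trans (hmove' t _ (b j).2)) 2
      nlinarith [mul_pos hpos (show (0 : ℝ) < 1 - r ^ 2 by nlinarith)]
    have hgood : ∀ v ∈ E t', P v ∈ E t' := by
      by_contra h
      exact (hmin t' (Finset.mem_filter.2 ⟨Finset.mem_univ _, h⟩)).not_gt hlt
    have hstab : ∀ e ∈ E 1, ρ t' e ∈ E 1 := by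
      intro e he
      set f := ρ t' e
      have hf1 : f - P f ∈ E t' := sub_mem (hEmap t' e he) (hgood _ (hEmap t' e he))
      set e₁ := ρ t'⁻¹ (f - P f)
      have he₁ : e₁ ∈ E 1 := (hE1 _).2 ((hE _ _).1 hf1)
      have hte : ρ t' e₁ = f - P f := rep_apply_inv ρ t' _
      have horth : (inner ℂ (orb ρ e₁) (orb ρ (ρ t' e₁)) : ℂ) = 0 := hte ▸ hperp f e₁ he₁
      have h1 : ‖orb ρ (ρ t' e₁ - e₁)‖ ^ 2 = ‖orb ρ e₁‖ ^ 2 + ‖orb ρ e₁‖ ^ 2 := by
        rw [map_sub, norm_sub_sq (𝕜 := ℂ), inner_eq_zero_symm.1 horth, norm_orb_rep]; simp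
      have h2 : ‖orb ρ (ρ t' e₁ - e₁)‖ ≤ r * ‖orb ρ e₁‖ := by
        refine (hmove' t e₁ he₁).trans (mul_le_mul_of_nonneg_left ?_ hr0)
        refine (hbest _ 0 (zero_mem _)).trans ?_
        rw [sub_zero, norm_orb_rep]
      have h3 : ‖orb ρ e₁‖ = 0 := by
        by_contra hne
        have hp : 0 < ‖orb ρ e₁‖ := lt_of_le_of_ne (norm_nonneg _) (Ne.symm hne)
        nlinarith [pow_le_pow_left₀ (norm_nonneg _) h2 2, mul_pos hp hp, mul_pos (show (0 : ℝ) < 2 - r ^ 2 by nlinarith) (mul_pos hp hp)]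
      have h4 : f - P f = 0 := by rw [← hte, orb_eq_zero ρ (norm_eq_zero.1 h3), map_zero]
      rw [sub_eq_zero.1 h4]
      exact hPE f
    apply ht
    have hinv : ∀ v ∈ E t, ρ x v ∈ E t := by
      intro v hv
      have he : ρ t⁻¹ v ∈ E 1 := (hE1 _).2 ((hE t v).1 hv)
      have h1 : ρ x v = c • ρ t (ρ t' (ρ t⁻¹ v)) := by
        have hxinv : ρ x⁻¹ (ρ t⁻¹ v) = c⁻¹ • ρ t⁻¹ v := by
          have h := rep_inv_apply ρ x (ρ t⁻¹ v)
          rw [(hE1 _).1 he, map_smul] at h
          rw [eq_inv_smul_iff₀ hc0]; exact h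
        simp only [ht', map_mul, Module.End.mul_apply, hxinv, map_smul, rep_apply_inv, smul_smul,
          mul_inv_cancel₀ hc0, one_smul]
      rw [h1]
      exact Submodule.smul_mem _ _ (hEmap t _ (hstab _ he))
    intro v hv
    have hxi : ∀ i : ℕ, ρ (x ^ i) v ∈ E t := fun i => by
      induction i with
      | zero => simpa using hv
      | succ i ih => rw [pow_succ', map_mul, Module.End.mul_apply]; exact hinv _ ih
    simp only [hP, proj, LinearMap.smul_apply, LinearMap.sum_apply]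
    exact Submodule.smul_mem _ _ (sum_mem fun i _ => Submodule.smul_mem _ _ (hxi i))
  let Pg : G → Module.End ℂ (Fin n → ℂ) := fun g => ρ g * P * ρ g⁻¹
  have hcompat : ∀ g h, ∀ v ∈ E h, Pg g v ∈ E h := by
    intro g h v hv
    have h1 : ρ g⁻¹ v ∈ E (g⁻¹ * h) := by
      rw [hE, mul_inv_rev, inv_inv, map_mul, Module.End.mul_apply, rep_apply_inv]
      exact (hE h v).1 hv
    have h2 := (hE _ _).1 (hcompat1 _ _ h1)
    rw [mul_inv_rev, inv_inv, map_mul, Module.End.mul_apply] at h2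
    rw [hE]
    exact h2
  -- minimal intersections of translates
  let fam : Set (Submodule ℂ (Fin n → ℂ)) := {W | W ≠ ⊥ ∧ ∃ s : Finset G, s.Nonempty ∧ W = s.inf E}
  have hfam : ∃ d, ∃ W ∈ fam, Module.finrank ℂ W = d := by
    refine ⟨_, E 1, ⟨fun h => hv₀ ?_, {1}, Finset.singleton_nonempty 1, by rw [Finset.inf_singleton]⟩, rfl⟩
    have := (hE1 v₀).2 hxv₀
    rwa [h, Submodule.mem_bot] at this
  set d := Nat.find hfam
  obtain ⟨W₀, hW₀, hW₀d⟩ := Nat.find_spec hfam
  let IsMin : Submodule ℂ (Fin n → ℂ) → Prop := fun W => W ∈ fam ∧ Module.finrank ℂ W = d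
  have hmin : ∀ W, IsMin W → ∀ g, W ≤ E g ∨ W ⊓ E g = ⊥ := by
    rintro W ⟨⟨-, s, hs, rfl⟩, hd⟩ g
    by_cases h0 : s.inf E ⊓ E g = ⊥
    · exact Or.inr h0
    · refine Or.inl ?_
      have hmem : s.inf E ⊓ E g ∈ fam := ⟨h0, insert g s, Finset.insert_nonempty g s, by
        rw [Finset.inf_insert, inf_comm]⟩
      have h1 : d ≤ Module.finrank ℂ ↥(s.inf E ⊓ E g) := Nat.find_le ⟨_, hmem, rfl⟩
      exact inf_eq_left.1 (Submodule.eq_of_le_of_finrank_le inf_le_left (hd ▸ h1))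
  have htrans : ∀ W, IsMin W → ∀ h : G, IsMin (W.comap (ρ h)) := by
    rintro W ⟨⟨hne, s, hs, rfl⟩, hd⟩ h
    let e : (Fin n → ℂ) ≃ₗ[ℂ] (Fin n → ℂ) := LinearEquiv.ofLinearMap (ρ h) (ρ h⁻¹)
      (LinearMap.ext (rep_apply_inv ρ h)) (LinearMap.ext (rep_inv_apply ρ h))
    have hfr : Module.finrank ℂ ↥((s.inf E).comap (ρ h)) = d := by
      rw [← hd]
      exact LinearEquiv.finrank_eq (e.ofSubmodule' (s.inf E))
    refine ⟨⟨fun h0 => hne ?_, s.image (h⁻¹ * ·), hs.image _, ?_⟩, hfr⟩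
    · rw [← Submodule.finrank_eq_zero, hd, ← hfr, h0, finrank_bot]
    · ext v
      simp only [Submodule.mem_comap, Submodule.mem_finsetInf, Finset.mem_image, forall_exists_index, and_imp,
        forall_apply_eq_imp_iff₂, hE, mul_inv_rev, inv_inv, map_mul, Module.End.mul_apply]
  have hWx : ∀ W, IsMin W → ∀ w ∈ W, ρ x w ∈ W := by
    intro W hW w hw
    have hW' := htrans W hW x⁻¹
    obtain ⟨⟨-, s', -, hs'⟩, hd'⟩ := hW'
    by_cases hall : ∀ g ∈ s', W ≤ E g
    · have hle : W ≤ W.comap (ρ x⁻¹) := by rw [hs']; exact Finset.le_inf hall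
      have heq := Submodule.eq_of_le_of_finrank_le hle (hd'.le.trans hW.2.ge)
      rw [heq, Submodule.mem_comap, rep_inv_apply]
      exact hw
    · simp only [not_forall] at hall
      obtain ⟨g, hg, hWg⟩ := hall
      have h0 := (hmin W hW g).resolve_left hWg
      have hxw : ρ x w ∈ E g := by
        have h1 : ρ x w ∈ W.comap (ρ x⁻¹) := by rw [Submodule.mem_comap, rep_inv_apply]; exact hw
        rw [hs'] at h1
        exact SetLike.le_def.1 (Finset.inf_le hg) h1
      have hPw : Pg g w = 0 := by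
        refine (Submodule.eq_bot_iff _).1 h0 _ ⟨?_, ?_⟩
        · obtain ⟨⟨-, s, -, rfl⟩, -⟩ := hW
          rw [SetLike.mem_coe, Submodule.mem_finsetInf]
          exact fun i hi => hcompat g i w (Submodule.mem_finsetInf.1 hw i hi)
        · exact hEmap g _ (hPE _)
      have horth : (inner ℂ (orb ρ (ρ x w)) (orb ρ w) : ℂ) = 0 := by
        have hw' : P (ρ g⁻¹ w) = 0 := by
          have := congrArg (ρ g⁻¹) hPw
          rw [map_zero] at this
          simpa only [Pg, Module.End.mul_apply, rep_inv_apply] using this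
        rw [← inner_orb_rep ρ g⁻¹]
        have := hperp (ρ g⁻¹ w) (ρ g⁻¹ (ρ x w)) ((hE1 _).2 ((hE g _).1 hxw))
        rwa [hw', sub_zero] at this
      have hB' := hB w
      have h2 : ‖orb ρ (ρ x w - c • w)‖ ^ 2 = ‖orb ρ w‖ ^ 2 + ‖orb ρ w‖ ^ 2 := by
        rw [map_sub, map_smul, norm_sub_sq (𝕜 := ℂ), inner_smul_right, horth, norm_smul, hcn, norm_orb_rep]
        simp
      have h3 : ‖orb ρ w‖ = 0 := by
        by_contra hne
        have hp : 0 < ‖orb ρ w‖ := lt_of_le_of_ne (norm_nonneg _) (Ne.symm hne)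
        nlinarith [pow_le_pow_left₀ (norm_nonneg _) hB' 2, mul_pos hp hp, mul_pos (show (0 : ℝ) < 2 - r ^ 2 by nlinarith) (mul_pos hp hp)]
      rw [orb_eq_zero ρ (norm_eq_zero.1 h3), map_zero]
      exact zero_mem W
  -- the stabiliser of a minimal intersection
  have hW₀' : IsMin W₀ := ⟨hW₀, hW₀d⟩
  have hinv : ∀ g : G, ∀ w ∈ W₀, ρ g w ∈ W₀ := by
    intro g
    have hg : g ∈ Submonoid.closure (Group.conjugatesOfSet ({x} : Set G)) := by
      have h : g ∈ Subgroup.normalClosure ({x} : Set G) := hgen ▸ Subgroup.mem_top g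
      rwa [Subgroup.normalClosure, ← Subgroup.mem_toSubmonoid, Subgroup.closure_toSubmonoid_of_finite] at h
    induction hg using Submonoid.closure_induction with
    | mem y hy =>
      obtain ⟨x', hx', hy'⟩ := Group.mem_conjugatesOfSet_iff.1 hy
      rw [Set.mem_singleton_iff.1 hx'] at hy'
      obtain ⟨a, rfl⟩ := isConj_iff.1 hy'
      intro w hw
      have h1 := hWx _ (htrans W₀ hW₀' a) (ρ a⁻¹ w) (by rwa [Submodule.mem_comap, rep_apply_inv])
      rw [Submodule.mem_comap] at h1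
      simpa only [map_mul, Module.End.mul_apply] using h1
    | one => simp
    | mul a b _ _ ha hb =>
      intro w hw
      rw [map_mul, Module.End.mul_apply]
      exact ha _ (hb _ hw)
  let S : Subrepresentation ρ := { toSubmodule := W₀, apply_mem_toSubmodule := fun g w hw => hinv g w hw }
  have hS : S = ⊤ := (IsSimpleOrder.eq_bot_or_eq_top S).resolve_left fun h =>
    hW₀.1 (congrArg Subrepresentation.toSubmodule h)
  have htop : W₀ = ⊤ := congrArg Subrepresentation.toSubmodule hS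
  intro v
  obtain ⟨-, s, ⟨g, hg⟩, hs⟩ := hW₀
  have h1 : ρ g v ∈ E g := SetLike.le_def.1 (Finset.inf_le hg) (by rw [← hs, htop]; trivial)
  rw [hE, rep_inv_apply] at h1
  exact h1

end Cfsg.Lib.Jordan
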